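import Mathlib

/-!
Proper, geometrically connected and geometrically reduced schemes over a field have only constant
global functions.
-/

set_option autoImplicit false
universe u

open CategoryTheory CategoryTheory.Limits AlgebraicGeometry TensorProduct

namespace Groth.Agent.AbSch7

open Polynomial in
theorem algebraMap_bijective_of_idempotents {K : Type u} [Field K] [IsAlgClosed K] {Γ : Type u}
    [CommRing Γ] [IsReduced Γ] [Algebra K Γ] [Algebra.IsIntegral K Γ] [Nontrivial Γ]
    (hid : ∀ e : Γ, e * e = e → e = 0 ∨ e = 1) : Function.Bijective (algebraMap K Γ) := by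
  refine ⟨(algebraMap K Γ).injective, fun s => ?_⟩
  have hs : IsIntegral K s := Algebra.IsIntegral.isIntegral s
  obtain ⟨c, hc⟩ := IsAlgClosed.exists_root (minpoly K s)
    (minpoly.degree_pos hs).ne'
  obtain ⟨Q, hQ⟩ := dvd_iff_isRoot.2 hc
  have hP : (s - algebraMap K Γ c) * aeval s Q = 0 := by
    rw [← minpoly.aeval K s, hQ, map_mul, map_sub, aeval_X, aeval_C]
  have hPne : minpoly K s ≠ 0 := minpoly.ne_zero hs
  have hQne : Q ≠ 0 := fun h => hPne (by rw [hQ, h, mul_zero])
  have hdeg : ∀ G : K[X], G ≠ 0 → aeval s G = 0 → (minpoly K s).natDegree ≤ G.natDegree :=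
    fun G hG hG0 => natDegree_le_natDegree (minpoly.degree_le_of_ne_zero K s hG hG0)
  have hQc : Q.eval c ≠ 0 := by
    intro h
    obtain ⟨Q', hQ'⟩ := dvd_iff_isRoot.2 (show Q.IsRoot c from h)
    have h2 : (aeval s Q) ^ 2 = 0 := by
      rw [hQ', map_mul, map_sub, aeval_X, aeval_C] at hP ⊢
      linear_combination aeval s Q' * hP
    have := hdeg Q hQne (pow_eq_zero_iff (by norm_num) |>.1 h2)
    rw [hQ, natDegree_mul (X_sub_C_ne_zero c) hQne, natDegree_X_sub_C] at this
    omega
  obtain ⟨R', hR'⟩ := dvd_iff_isRoot.2 (show (Q - C (Q.eval c)).IsRoot c by simp)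
  have h2 : aeval s Q * aeval s Q = aeval s Q * algebraMap K Γ (Q.eval c) := by
    have h3 := congrArg (aeval s) hR'
    rw [map_sub, map_mul, map_sub, aeval_X, aeval_C, aeval_C] at h3
    linear_combination aeval s Q * h3 + aeval s R' * hP
  set v := algebraMap K Γ (Q.eval c)⁻¹ with hv
  have hv1 : algebraMap K Γ (Q.eval c) * v = 1 := by
    rw [← map_mul, mul_inv_cancel₀ hQc, map_one]
  rcases hid (aeval s Q * v) (by linear_combination v * v * h2 + aeval s Q * v * hv1) with h | h
  · have h4 : aeval s Q = 0 := by
      linear_combination algebraMap K Γ (Q.eval c) * h - aeval s Q * hv1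
    have := hdeg Q hQne h4
    rw [hQ, natDegree_mul (X_sub_C_ne_zero c) hQne, natDegree_X_sub_C] at this
    omega
  · exact ⟨c, by linear_combination (s - algebraMap K Γ c) * h - v * hP⟩

/-- Descent of bijectivity along a field extension, in pushout form. -/
theorem bijective_of_isPushout {R S T P : CommRingCat.{u}} {f : R ⟶ S} {g : R ⟶ T} {inl : S ⟶ P}
    {inr : T ⟶ P} (H : IsPushout f g inl inr) (hR : IsField R) [Nontrivial T]
    (hb : Function.Bijective inr.hom) : Function.Bijective f.hom := by
  let := hR.toField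
  algebraize [f.hom, g.hom, inl.hom, inr.hom, inl.hom.comp f.hom]
  have : IsScalarTower R T P := IsScalarTower.of_algebraMap_eq' (congrArg CommRingCat.Hom.hom H.w)
  have hpush : Algebra.IsPushout R T S P := CommRingCat.isPushout_iff_isPushout.1 H.flip
  have hP : Nontrivial P := hb.1.nontrivial
  have hS : Nontrivial S := inl.hom.domain_nontrivial
  refine ⟨f.hom.injective, ?_⟩
  let e := Algebra.IsPushout.equiv R T S P
  have h2 : Function.Surjective (LinearMap.lTensor T (Algebra.linearMap R S)) := fun y => by
    obtain ⟨t, ht⟩ := hb.2 (e y)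
    refine ⟨t ⊗ₜ 1, e.injective ?_⟩
    rw [LinearMap.lTensor_tmul, Algebra.linearMap_apply, map_one, ← ht]
    have := e.commutes t
    exact this
  exact (Module.FaithfullyFlat.lTensor_surjective_iff_surjective R T _).1 h2

theorem appTop_bijective_of_isAlgClosed {K : Type u} [Field K] [IsAlgClosed K] {X : Scheme.{u}}
    (f : X ⟶ Spec (CommRingCat.of K)) [IsProper f] [ConnectedSpace X] [IsReduced X] :
    Function.Bijective f.appTop.hom := by
  let A := Γ(Spec (CommRingCat.of K), ⊤)
  have hA : IsField A := (Scheme.ΓSpecIso (CommRingCat.of K)).commRingCatIsoToRingEquiv.toMulEquiv.isField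
    (Field.toIsField K)
  let := hA.toField
  have : IsAlgClosed A :=
    IsAlgClosed.of_ringEquiv K A (Scheme.ΓSpecIso (CommRingCat.of K)).commRingCatIsoToRingEquiv.symm
  algebraize [f.appTop.hom]
  have : Algebra.IsIntegral A Γ(X, ⊤) := ⟨isIntegral_appTop_of_universallyClosed f⟩
  have : Nontrivial Γ(X, ⊤) := by
    have : Nonempty (⊤ : X.Opens) := ⟨⟨Nonempty.some inferInstance, trivial⟩⟩
    infer_instance
  refine algebraMap_bijective_of_idempotents (K := A) fun e he => ?_
  have hcover : X.basicOpen e ⊔ X.basicOpen (1 - e) = ⊤ := by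
    refine top_le_iff.1 fun x _ => ?_
    rw [TopologicalSpace.Opens.mem_sup, Scheme.mem_basicOpen_top, Scheme.mem_basicOpen_top, map_sub,
      map_one]
    exact IsLocalRing.isUnit_or_isUnit_one_sub_self _
  have hinf : X.basicOpen e ⊓ X.basicOpen (1 - e) = ⊥ := by
    rw [← Scheme.basicOpen_mul, mul_sub, mul_one, he, sub_self, Scheme.basicOpen_zero]
  have hcl : IsClopen (X.basicOpen e : Set X) := by
    refine ⟨?_, (X.basicOpen e).2⟩
    have : (X.basicOpen e : Set X) = (X.basicOpen (1 - e) : Set X)ᶜ := by
      ext x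
      constructor
      · intro hx hx'
        exact (SetLike.ext_iff.1 hinf x).1 ⟨hx, hx'⟩
      · intro hx
        rcases (SetLike.ext_iff.1 hcover x).2 trivial with h | h
        · exact h
        · exact absurd h hx
    rw [this]
    exact (X.basicOpen (1 - e)).2.isClosed_compl
  rcases isClopen_iff.1 hcl with h | h
  · exact Or.inl ((basicOpen_eq_bot_iff e).1 (TopologicalSpace.Opens.ext h))
  · refine Or.inr (sub_eq_zero.1 ((basicOpen_eq_bot_iff (1 - e)).1 ?_)).symm
    rw [← hinf, show X.basicOpen e = ⊤ from TopologicalSpace.Opens.ext h, top_inf_eq]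

theorem appLE_top {X Y : Scheme.{u}} (h : X ⟶ Y) (he : ⊤ ≤ h ⁻¹ᵁ ⊤) :
    h.appLE ⊤ ⊤ he = h.appTop := Scheme.Hom.appLE_eq_app ..

/-- A proper, geometrically connected and geometrically reduced scheme over a field has only
constant functions. -/
theorem appTop_bijective_of_field {k : Type u} [Field k] {X : Scheme.{u}}
    (f : X ⟶ Spec (CommRingCat.of k)) [IsProper f] [GeometricallyConnected f]
    [GeometricallyReduced f] : Function.Bijective f.appTop.hom := by
  let K := AlgebraicClosure k
  let g : Spec (CommRingCat.of K) ⟶ Spec (CommRingCat.of k) :=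
    Spec.map (CommRingCat.ofHom (algebraMap k K))
  have : Flat g := (HasRingHomProperty.Spec_iff (P := @Flat)).2
    (RingHom.flat_algebraMap_iff.2 inferInstance)
  have H := IsPullback.of_hasPullback f g
  have : ConnectedSpace ↥(pullback f g) :=
    GeometricallyConnected.geometrically_connectedSpace _ _ _ H
  have : IsReduced (pullback f g) := GeometricallyReduced.geometrically_isReduced _ _ _ H
  have hK := appTop_bijective_of_isAlgClosed (pullback.snd f g)
  have : CompactSpace X := QuasiCompact.compactSpace_of_compactSpace f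
  have : QuasiSeparatedSpace X := quasiSeparatedSpace_of_quasiSeparated f
  have hiso := isIso_pushoutSection_of_isQuasiSeparated_of_flat_right (US := ⊤) (UT := ⊤) (UX := ⊤)
    (UY := ⊤) H (by simp) (by simp) (by simp) (isAffineOpen_top _) (isAffineOpen_top _)
    (by simpa using isCompact_univ) (by simpa using isQuasiSeparated_univ)
  have hp := (isIso_pushoutSection_iff ..).1 hiso
  have : Nontrivial Γ(Spec (CommRingCat.of K), ⊤) :=
    (Scheme.ΓSpecIso (CommRingCat.of K)).commRingCatIsoToRingEquiv.toEquiv.nontrivial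
  refine bijective_of_isPushout (f := f.appTop) (g := g.appTop) (inl := (pullback.fst f g).appTop)
    (inr := (pullback.snd f g).appTop) ?_ ?_ hK
  · rw [← appLE_top f (by simp), ← appLE_top g (by simp), ← appLE_top (pullback.fst f g) (by simp),
      ← appLE_top (pullback.snd f g) (by simp)]
    exact hp
  · exact (Scheme.ΓSpecIso (CommRingCat.of k)).commRingCatIsoToRingEquiv.toMulEquiv.isField
      (Field.toIsField k)

end Groth.Agent.AbSch7
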