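import Groth.Agent.AbSch7.Rigid
import Groth.Agent.AlgGrp79.SepDense

/-!
Smooth proper morphisms with geometrically connected fibres: the rigidity hypotheses.
-/

set_option autoImplicit false
universe u

open CategoryTheory CategoryTheory.Limits AlgebraicGeometry TopologicalSpace

namespace Groth.Agent.AbSch7

theorem geometricallyReduced_of_smooth {X T : Scheme.{u}} (f : X ⟶ T) [Smooth f] :
    GeometricallyReduced f := by
  refine ⟨fun K _ y Z p q h => ?_⟩
  have : Smooth q := MorphismProperty.of_isPullback h ‹Smooth f›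
  exact @AlgGrp79.isReduced_of_smooth K _ _ q this

theorem h0Fib_of_smooth {X T : Scheme.{u}} (f : X ⟶ T) [Smooth f] [IsProper f]
    [GeometricallyConnected f] : H0Fib f :=
  have := geometricallyReduced_of_smooth f
  H0Fib.of_geometrically f

/-- A morphism whose fibres are all collapsed factors through the base. -/
theorem exists_factor_of_forall_collapsed {X Y T : Scheme.{u}} (f : X ⟶ T) [Surjective f]
    (hb : ∀ U : T.Opens, Function.Bijective (f.app U).hom) (hcl : IsClosedMap f) (h : X ⟶ Y)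
    (hall : ∀ t, t ∈ collapsed f h) : ∃ k : T ⟶ Y, f ≫ k = h := by
  obtain ⟨k, hk⟩ := exists_factor_collapsed f h hb hcl ⊤ fun t _ => hall t
  let i : X ⟶ (f ⁻¹ᵁ ⊤).toScheme :=
    IsOpenImmersion.lift (f ⁻¹ᵁ ⊤).ι (𝟙 X) (by rw [Scheme.Opens.range_ι]; exact fun _ _ => trivial)
  let j : T ⟶ (⊤ : T.Opens).toScheme :=
    IsOpenImmersion.lift (⊤ : T.Opens).ι (𝟙 T) (by rw [Scheme.Opens.range_ι]; exact fun _ _ => trivial)
  have hi : i ≫ (f ⁻¹ᵁ ⊤).ι = 𝟙 X := IsOpenImmersion.lift_fac _ _ _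
  have hj : j ≫ (⊤ : T.Opens).ι = 𝟙 T := IsOpenImmersion.lift_fac _ _ _
  have e1 : f ≫ j = i ≫ (f ∣_ ⊤) := by
    rw [← cancel_mono (⊤ : T.Opens).ι, Category.assoc, Category.assoc, hj, morphismRestrict_ι,
      reassoc_of% hi, Category.comp_id]
  exact ⟨j ≫ k, by rw [reassoc_of% e1, ← hk, reassoc_of% hi]⟩

end Groth.Agent.AbSch7
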