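import Groth.Agent.FBase64.Geometric
import Groth.Agent.Rig93.GenGroup
import Groth.Agent.AbSch7.SmoothFib

/-!
Connected fibres with a section are geometrically connected; bilinear morphisms out of a product
with an abelian scheme are trivial.
-/

set_option autoImplicit false
universe u

set_option backward.isDefEq.respectTransparency false

open CategoryTheory CategoryTheory.Limits MonoidalCategory CartesianMonoidalCategory MonObj GrpObj AlgebraicGeometry

namespace Groth.Agent.AbSch7

/-- A morphism with a section and connected fibres has geometrically connected fibres. -/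
theorem geometricallyConnected_of_section {X S : Scheme.{u}} (f : X ⟶ S) (σ : S ⟶ X) (hσ : σ ≫ f = 𝟙 S)
    (hfib : ∀ s : S, ConnectedSpace ↥(f.fiber s)) : GeometricallyConnected f := by
  rw [GeometricallyConnected.iff_geometricallyConnected_fiber]
  intro s
  let σs : Spec (S.residueField s) ⟶ f.fiber s := pullback.lift (S.fromSpecResidueField s ≫ σ) (𝟙 _)
    (by simp [hσ])
  have h : σs ≫ f.fiberToSpecResidueField s = 𝟙 _ := pullback.lift_snd _ _ _
  have : GeometricallyConnected (σs ≫ f.fiberToSpecResidueField s) := by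
    rw [h]
    exact FBase64.geometricallyConnected_of_geometricallyIrreducible _ (h := ⟨fun K _ y Z p q hp => by
      have : IsIso q := hp.isIso_snd_of_isIso
      exact q.homeomorph.symm.surjective.irreducibleSpace q.homeomorph.symm.continuous⟩)
  have := hfib s
  exact FBase64.geometricallyConnected_of_source (k := S.residueField s) _ σs

variable {S : Scheme.{u}}

/-- The group scheme hypotheses of the rigidity lemma. -/
theorem geometrically_of_smooth_group (A : Over S) [GrpObj A] [Smooth A.hom]
    (hA : ∀ s : S, ConnectedSpace ↥(A.hom.fiber s)) :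
    GeometricallyConnected A.hom ∧ GeometricallyReduced A.hom :=
  ⟨geometricallyConnected_of_section A.hom η[A].left (Over.w η[A]) hA, geometricallyReduced_of_smooth A.hom⟩

/-- A morphism `A ⊗ B ⟶ C` which is trivial on both axes is trivial, when `A` is an abelian scheme
and `B` has connected fibres. -/
theorem eq_one_of_axes (A B C : Over S) [GrpObj A] [Smooth A.hom] [IsProper A.hom]
    (hA : ∀ s : S, ConnectedSpace ↥(A.hom.fiber s))
    [GrpObj B] (hB : ∀ s : S, ConnectedSpace ↥(B.hom.fiber s))
    [GrpObj C] [IsSeparated C.hom] [LocallyOfFinitePresentation C.hom] [QuasiCompact C.hom]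
    (β : A ⊗ B ⟶ C) (h₁ : lift (𝟙 A) (1 : A ⟶ B) ≫ β = 1) (h₂ : lift (1 : B ⟶ A) (𝟙 B) ≫ β = 1) :
    β = 1 := by
  obtain ⟨hgc, hgr⟩ := geometrically_of_smooth_group A hA
  have hcl : ∀ U : Set B.left, IsClopen U → Set.range η[B].left ⊆ U → U = Set.univ := by
    refine fun U hU hr => Set.eq_univ_of_forall fun x => ?_
    have hx : B.hom (η[B].left (B.hom x)) = B.hom x :=
      congrArg (fun m : S ⟶ S => m (B.hom x)) (Over.w η[B])
    have hc : _root_.IsPreconnected (B.hom ⁻¹' {B.hom x}) := by
      rw [← Scheme.Hom.range_fiberι]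
      have := hB (B.hom x)
      exact isPreconnected_range (B.hom.fiberι (B.hom x)).continuous
    exact hc.subset_isClopen hU ⟨_, hx, hr ⟨_, rfl⟩⟩ rfl
  obtain ⟨h, hh⟩ := Rig93.prod_decomp_general A B C (fun s => Rig93.h0_of_geometrically A.hom s) η[B] hcl β
  have hs : Rig93.slice A η[B] ≫ β = 1 := by
    rw [Rig93.slice, ← Hom.one_def]
    exact h₁
  rw [hs, MonObj.comp_one, _root_.one_mul] at hh
  have h3 := lift (1 : B ⟶ A) (𝟙 B) ≫= hh
  rw [h₂, lift_snd_assoc, Category.id_comp] at h3
  rw [hh, ← h3, MonObj.comp_one]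

end Groth.Agent.AbSch7
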