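import Groth.Prelude.Def_Biext
import Mathlib.CategoryTheory.Sites.LocallySurjective
import Mathlib.CategoryTheory.Sites.Preserves
import Mathlib.CategoryTheory.Preadditive.AdditiveFunctor

/-! A biextension of divisible sheaves which becomes trivial after pulling back along multiplications
is trivial. -/

set_option autoImplicit false

universe u

open CategoryTheory Opposite

namespace Groth.Agent.AbSch7

variable {C : Type (u + 1)} [Category.{u} C] {J : GrothendieckTopology C} {P Q G : Sheaf J AddCommGrpCat.{u + 1}}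

/-- The sections of a multiple of the identity. -/
def Divides (P : Sheaf J AddCommGrpCat.{u + 1}) : Prop :=
  ∀ k : ℤ, k ≠ 0 → ∀ (T : C) (p : P.obj.obj (op T)), ∃ R ∈ J T, ∀ ⦃T' : C⦄ (f : T' ⟶ T), R f →
    ∃ p' : P.obj.obj (op T'), k • p' = P.obj.map f.op p

theorem smul_id_app (P : Sheaf J AddCommGrpCat.{u + 1}) (k : ℤ) (T : C) (p : P.obj.obj (op T)) :
    (k • 𝟙 P : P ⟶ P).hom.app (op T) p = k • p :=
  map_zsmul (AddMonoidHom.mk' (fun f : P ⟶ P => f.hom.app (op T) p) (fun _ _ => rfl)) k (𝟙 P)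

theorem divides_of_locallySurjective (P : Sheaf J AddCommGrpCat.{u + 1})
    (h : ∀ k : ℤ, k ≠ 0 → Sheaf.IsLocallySurjective (k • 𝟙 P)) : Divides P := by
  intro k hk T p
  have := h k hk
  refine ⟨Presheaf.imageSieve (k • 𝟙 P : P ⟶ P).hom p, Presheaf.imageSieve_mem J _ p, fun T' f hf => ?_⟩
  obtain ⟨p', hp'⟩ := hf
  exact ⟨p', (smul_id_app P k T' p').symm.trans hp'⟩

variable {n m : ℤ} {B B' : Biext J P Q G}
  (φ : Biext.HomOver J (n • 𝟙 P) (m • 𝟙 Q) (𝟙 G) B' B) (σ' : Biext.Splitting J B')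

/-- The image of the splitting. -/
def tau {T : C} (p : P.obj.obj (op T)) (q : Q.obj.obj (op T)) : B.E.obj.obj (op T) := φ.map T (σ'.σ T p q)

theorem πP_tau {T : C} (p : P.obj.obj (op T)) (q : Q.obj.obj (op T)) : B.πP T (tau φ σ' p q) = n • p := by
  rw [tau, φ.πP_map, σ'.πP_σ, smul_id_app]

theorem πQ_tau {T : C} (p : P.obj.obj (op T)) (q : Q.obj.obj (op T)) : B.πQ T (tau φ σ' p q) = m • q := by
  rw [tau, φ.πQ_map, σ'.πQ_σ, smul_id_app]

theorem tau_map {T T' : C} (f : T' ⟶ T) (p : P.obj.obj (op T)) (q : Q.obj.obj (op T)) :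
    B.E.obj.map f.op (tau φ σ' p q) = tau φ σ' (P.obj.map f.op p) (Q.obj.map f.op q) := by
  rw [tau, tau, ← φ.map_res, σ'.σ_map]

theorem tau_add₁ {T : C} (p p' : P.obj.obj (op T)) (q : Q.obj.obj (op T)) :
    tau φ σ' (p + p') q = B.add₁ T (tau φ σ' p q) (tau φ σ' p' q) (by rw [πQ_tau, πQ_tau]) := by
  simp only [tau, σ'.σ_add₁, φ.map_add₁]

theorem tau_add₂ {T : C} (p : P.obj.obj (op T)) (q q' : Q.obj.obj (op T)) :
    tau φ σ' p (q + q') = B.add₂ T (tau φ σ' p q) (tau φ σ' p q') (by rw [πP_tau, πP_tau]) := by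
  simp only [tau, σ'.σ_add₂, φ.map_add₂]

theorem add₁_act_act {T : C} (g g' : G.obj.obj (op T)) (x z : B.E.obj.obj (op T)) (h : B.πQ T x = B.πQ T z) :
    B.add₁ T (B.act T g x) (B.act T g' z) (by rw [B.πQ_act, B.πQ_act, h]) = B.act T (g + g') (B.add₁ T x z h) := by
  rw [B.add₁_act T g x _ (h.trans (B.πQ_act T g' z).symm), B.add_act,
    B.add₁_comm T x (B.act T g' z) (h.trans (B.πQ_act T g' z).symm), B.add₁_act T g' z x h.symm,
    B.add₁_comm T z x h.symm]

theorem add₂_act_act {T : C} (g g' : G.obj.obj (op T)) (x z : B.E.obj.obj (op T)) (h : B.πP T x = B.πP T z) :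
    B.add₂ T (B.act T g x) (B.act T g' z) (by rw [B.πP_act, B.πP_act, h]) = B.act T (g + g') (B.add₂ T x z h) := by
  rw [B.add₂_act T g x _ (h.trans (B.πP_act T g' z).symm), B.add_act,
    B.add₂_comm T x (B.act T g' z) (h.trans (B.πP_act T g' z).symm), B.add₂_act T g' z x h.symm,
    B.add₂_comm T z x h.symm]

theorem act_eq_unique {T : C} {x : B.E.obj.obj (op T)} {g g' : G.obj.obj (op T)}
    (h : B.act T g x = B.act T g' x) : g = g' :=
  (B.existsUnique_act T x (B.act T g' x) (B.πP_act T g' x).symm (B.πQ_act T g' x).symm).unique h rfl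

theorem sheaf_ext (F : Sheaf J AddCommGrpCat.{u + 1}) {T : C} {R : Sieve T} (hR : R ∈ J T)
    (x y : F.obj.obj (op T)) (h : ∀ ⦃T' : C⦄ (f : T' ⟶ T), R f → F.obj.map f.op x = F.obj.map f.op y) : x = y :=
  ((isSheaf_iff_isSheaf_of_type J _).1
    ((Presheaf.isSheaf_iff_isSheaf_comp J _ (forget AddCommGrpCat.{u + 1})).1 F.2) R hR).isSeparatedFor.ext
    (fun _ f hf => h f hf)

theorem setSheaf_ext (F : Sheaf J (Type (u + 1))) {T : C} {R : Sieve T} (hR : R ∈ J T)
    (x y : F.obj.obj (op T)) (h : ∀ ⦃T' : C⦄ (f : T' ⟶ T), R f → F.obj.map f.op x = F.obj.map f.op y) : x = y :=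
  ((isSheaf_iff_isSheaf_of_type J _).1 F.2 R hR).isSeparatedFor.ext (fun _ f hf => h f hf)

theorem tau_eq_zero_left (hQ : Divides Q) (hn : n ≠ 0) {T : C} (k : P.obj.obj (op T)) (hk : n • k = 0)
    (q : Q.obj.obj (op T)) : tau φ σ' k q = tau φ σ' 0 q := by
  have hex : ∀ {T : C} (k : P.obj.obj (op T)), n • k = 0 → ∀ q,
      ∃! g : G.obj.obj (op T), B.act T g (tau φ σ' 0 q) = tau φ σ' k q := fun {T} k hk q =>
    B.existsUnique_act T _ _ (by rw [πP_tau, πP_tau, hk, smul_zero]) (by rw [πQ_tau, πQ_tau])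
  let K := fun T : C => (zsmulAddGroupHom (α := P.obj.obj (op T)) n).ker
  let d : ∀ {T : C}, K T → Q.obj.obj (op T) → G.obj.obj (op T) := fun {T} k q => (hex k.1 k.2 q).choose
  have hd : ∀ {T : C} (k : K T) q, B.act T (d k q) (tau φ σ' 0 q) = tau φ σ' k.1 q :=
    fun {T} k q => (hex k.1 k.2 q).choose_spec.1
  have hd₁ : ∀ {T : C} (k k' : K T) q, d (k + k') q = d k q + d k' q := by
    intro T k k' q
    refine act_eq_unique (B := B) (x := tau φ σ' 0 q) ?_
    rw [hd]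
    have h0 := tau_add₁ φ σ' (0 : P.obj.obj (op T)) 0 q
    rw [add_zero] at h0
    conv_rhs => rw [h0, ← add₁_act_act]
    simp only [hd]
    exact tau_add₁ φ σ' k.1 k'.1 q
  have hd₂ : ∀ {T : C} (k : K T) q q', d k (q + q') = d k q + d k q' := by
    intro T k q q'
    refine act_eq_unique (B := B) (x := tau φ σ' 0 (q + q')) ?_
    rw [hd]
    conv_rhs => rw [tau_add₂ φ σ' (0 : P.obj.obj (op T)) q q', ← add₂_act_act]
    simp only [hd]
    exact tau_add₂ φ σ' k.1 q q'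
  have hker : ∀ {T T' : C} (f : T' ⟶ T) (k : K T), n • P.obj.map f.op k.1 = 0 := fun {T T'} f k => by
    rw [← map_zsmul, show n • k.1 = 0 from k.2, map_zero]
  have hdmap : ∀ {T T' : C} (f : T' ⟶ T) (k : K T) q,
      G.obj.map f.op (d k q) = d ⟨P.obj.map f.op k.1, hker f k⟩ (Q.obj.map f.op q) := by
    intro T T' f k q
    refine act_eq_unique (B := B) (x := tau φ σ' 0 (Q.obj.map f.op q)) ?_
    rw [hd]
    have h := congrArg (B.E.obj.map f.op) (hd k q)
    rw [B.act_map, tau_map, tau_map, map_zero] at h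
    exact h
  suffices h : d ⟨k, hk⟩ q = 0 by
    have h' := hd ⟨k, hk⟩ q
    rw [h, B.zero_act] at h'
    exact h'.symm
  obtain ⟨R, hR, hdiv⟩ := hQ n hn T q
  refine sheaf_ext G hR _ _ fun T' f hf => ?_
  obtain ⟨q', hq'⟩ := hdiv f hf
  rw [map_zero, hdmap, ← hq']
  let k' : K T' := ⟨P.obj.map f.op k, hker f ⟨k, hk⟩⟩
  have e1 := map_zsmul (AddMonoidHom.mk' (d k') (hd₂ k')) n q'
  have e2 := map_zsmul (AddMonoidHom.mk' (fun x => d x q') (fun a b => hd₁ a b q')) n k'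
  have e3 : n • k' = 0 := Subtype.ext (hker f ⟨k, hk⟩)
  rw [e3, map_zero] at e2
  exact e1.trans e2.symm

theorem tau_eq_zero_right (hP : Divides P) (hm : m ≠ 0) {T : C} (l : Q.obj.obj (op T)) (hl : m • l = 0)
    (p : P.obj.obj (op T)) : tau φ σ' p l = tau φ σ' p 0 := by
  have hex : ∀ {T : C} (l : Q.obj.obj (op T)), m • l = 0 → ∀ p,
      ∃! g : G.obj.obj (op T), B.act T g (tau φ σ' p 0) = tau φ σ' p l := fun {T} l hl p =>
    B.existsUnique_act T _ _ (by rw [πP_tau, πP_tau]) (by rw [πQ_tau, πQ_tau, hl, smul_zero])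
  let K := fun T : C => (zsmulAddGroupHom (α := Q.obj.obj (op T)) m).ker
  let d : ∀ {T : C}, K T → P.obj.obj (op T) → G.obj.obj (op T) := fun {T} l p => (hex l.1 l.2 p).choose
  have hd : ∀ {T : C} (l : K T) p, B.act T (d l p) (tau φ σ' p 0) = tau φ σ' p l.1 :=
    fun {T} l p => (hex l.1 l.2 p).choose_spec.1
  have hd₁ : ∀ {T : C} (l l' : K T) p, d (l + l') p = d l p + d l' p := by
    intro T l l' p
    refine act_eq_unique (B := B) (x := tau φ σ' p 0) ?_
    rw [hd]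
    have h0 := tau_add₂ φ σ' p (0 : Q.obj.obj (op T)) 0
    rw [add_zero] at h0
    conv_rhs => rw [h0, ← add₂_act_act]
    simp only [hd]
    exact tau_add₂ φ σ' p l.1 l'.1
  have hd₂ : ∀ {T : C} (l : K T) p p', d l (p + p') = d l p + d l p' := by
    intro T l p p'
    refine act_eq_unique (B := B) (x := tau φ σ' (p + p') 0) ?_
    rw [hd]
    conv_rhs => rw [tau_add₁ φ σ' p p' (0 : Q.obj.obj (op T)), ← add₁_act_act]
    simp only [hd]
    exact tau_add₁ φ σ' p p' l.1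
  have hker : ∀ {T T' : C} (f : T' ⟶ T) (l : K T), m • Q.obj.map f.op l.1 = 0 := fun {T T'} f l => by
    rw [← map_zsmul, show m • l.1 = 0 from l.2, map_zero]
  have hdmap : ∀ {T T' : C} (f : T' ⟶ T) (l : K T) p,
      G.obj.map f.op (d l p) = d ⟨Q.obj.map f.op l.1, hker f l⟩ (P.obj.map f.op p) := by
    intro T T' f l p
    refine act_eq_unique (B := B) (x := tau φ σ' (P.obj.map f.op p) 0) ?_
    rw [hd]
    have h := congrArg (B.E.obj.map f.op) (hd l p)
    rw [B.act_map, tau_map, tau_map, map_zero] at h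
    exact h
  suffices h : d ⟨l, hl⟩ p = 0 by
    have h' := hd ⟨l, hl⟩ p
    rw [h, B.zero_act] at h'
    exact h'.symm
  obtain ⟨R, hR, hdiv⟩ := hP m hm T p
  refine sheaf_ext G hR _ _ fun T' f hf => ?_
  obtain ⟨p', hp'⟩ := hdiv f hf
  rw [map_zero, hdmap, ← hp']
  let l' : K T' := ⟨Q.obj.map f.op l, hker f ⟨l, hl⟩⟩
  have e1 := map_zsmul (AddMonoidHom.mk' (d l') (hd₂ l')) m p'
  have e2 := map_zsmul (AddMonoidHom.mk' (fun x => d x p') (fun a b => hd₁ a b p')) m l'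
  have e3 : m • l' = 0 := Subtype.ext (hker f ⟨l, hl⟩)
  rw [e3, map_zero] at e2
  exact e1.trans e2.symm

theorem tau_congr (hP : Divides P) (hQ : Divides Q) (hn : n ≠ 0) (hm : m ≠ 0) {T : C}
    (p p' : P.obj.obj (op T)) (q q' : Q.obj.obj (op T)) (ep : n • p = n • p') (eq : m • q = m • q') :
    tau φ σ' p q = tau φ σ' p' q' := by
  have h1 : tau φ σ' p q = tau φ σ' p' q := by
    calc tau φ σ' p q = tau φ σ' (p' + (p - p')) q := by rw [add_sub_cancel]
      _ = tau φ σ' (p' + 0) q := by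
        simp only [tau_add₁, tau_eq_zero_left φ σ' hQ hn (p - p') (by rw [zsmul_sub, ep, sub_self])]
      _ = tau φ σ' p' q := by rw [add_zero]
  rw [h1]
  calc tau φ σ' p' q = tau φ σ' p' (q' + (q - q')) := by rw [add_sub_cancel]
    _ = tau φ σ' p' (q' + 0) := by
      simp only [tau_add₂, tau_eq_zero_right φ σ' hP hm (q - q') (by rw [zsmul_sub, eq, sub_self])]
    _ = tau φ σ' p' q' := by rw [add_zero]

include φ σ' in
/-- Descent of the splitting. -/
theorem isTrivial_of_pullback (hP : Divides P) (hQ : Divides Q) (hn : n ≠ 0) (hm : m ≠ 0) :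
    Biext.IsTrivial J B := by
  have hE := (isSheaf_iff_isSheaf_of_type J _).1 B.E.2
  let R : ∀ {T : C}, P.obj.obj (op T) → Q.obj.obj (op T) → Sieve T := fun {T} p q =>
    { arrows := fun T' f => ∃ (p' : P.obj.obj (op T')) (q' : Q.obj.obj (op T')),
        n • p' = P.obj.map f.op p ∧ m • q' = Q.obj.map f.op q
      downward_closed := by
        rintro Y Z f ⟨p', q', hp, hq⟩ g
        exact ⟨P.obj.map g.op p', Q.obj.map g.op q',
          by rw [← map_zsmul, hp, ← ConcreteCategory.comp_apply, ← Functor.map_comp, ← op_comp],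
          by rw [← map_zsmul, hq, ← ConcreteCategory.comp_apply, ← Functor.map_comp, ← op_comp]⟩ }
  have hR : ∀ {T : C} (p : P.obj.obj (op T)) (q : Q.obj.obj (op T)), R p q ∈ J T := by
    intro T p q
    obtain ⟨R₁, h₁, hp⟩ := hP n hn T p
    obtain ⟨R₂, h₂, hq⟩ := hQ m hm T q
    refine J.superset_covering ?_ (J.intersection_covering h₁ h₂)
    rintro Y f ⟨hf₁, hf₂⟩
    obtain ⟨p', hp'⟩ := hp f hf₁
    obtain ⟨q', hq'⟩ := hq f hf₂
    exact ⟨p', q', hp', hq'⟩
  have hglue : ∀ {T : C} (p : P.obj.obj (op T)) (q : Q.obj.obj (op T)), ∃ e : B.E.obj.obj (op T),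
      ∀ ⦃T' : C⦄ (f : T' ⟶ T) (p' : P.obj.obj (op T')) (q' : Q.obj.obj (op T')),
        n • p' = P.obj.map f.op p → m • q' = Q.obj.map f.op q → B.E.obj.map f.op e = tau φ σ' p' q' := by
    intro T p q
    let fam : Presieve.FamilyOfElements B.E.obj (R p q).arrows := fun T' f hf =>
      tau φ σ' hf.choose hf.choose_spec.choose
    have hfam : fam.Compatible := by
      intro Y₁ Y₂ Z g₁ g₂ f₁ f₂ h₁ h₂ hcomm
      show B.E.obj.map g₁.op (tau φ σ' _ _) = B.E.obj.map g₂.op (tau φ σ' _ _)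
      rw [tau_map, tau_map]
      refine tau_congr φ σ' hP hQ hn hm _ _ _ _ ?_ ?_
      · rw [← map_zsmul, ← map_zsmul, h₁.choose_spec.choose_spec.1, h₂.choose_spec.choose_spec.1,
          ← ConcreteCategory.comp_apply, ← ConcreteCategory.comp_apply, ← Functor.map_comp, ← Functor.map_comp,
          ← op_comp, ← op_comp, hcomm]
      · rw [← map_zsmul, ← map_zsmul, h₁.choose_spec.choose_spec.2, h₂.choose_spec.choose_spec.2,
          ← ConcreteCategory.comp_apply, ← ConcreteCategory.comp_apply, ← Functor.map_comp, ← Functor.map_comp,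
          ← op_comp, ← op_comp, hcomm]
    refine ⟨(hE _ (hR p q)).amalgamate fam hfam, fun T' f p' q' hp hq => ?_⟩
    rw [(hE _ (hR p q)).valid_glue hfam f ⟨p', q', hp, hq⟩]
    exact tau_congr φ σ' hP hQ hn hm _ _ _ _
      ((Exists.choose_spec (⟨p', q', hp, hq⟩ : (R p q).arrows f)).choose_spec.1.trans hp.symm)
      ((Exists.choose_spec (⟨p', q', hp, hq⟩ : (R p q).arrows f)).choose_spec.2.trans hq.symm)
  choose σ hσ using @hglue
  refine ⟨{ σ := fun T p q => σ p q, πP_σ := ?_, πQ_σ := ?_, σ_map := ?_, σ_add₁ := ?_, σ_add₂ := ?_ }⟩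
  · intro T p q
    refine sheaf_ext P (hR p q) _ _ fun T' f ⟨p', q', hp, hq⟩ => ?_
    rw [← B.πP_map, hσ p q f p' q' hp hq, πP_tau, hp]
  · intro T p q
    refine sheaf_ext Q (hR p q) _ _ fun T' f ⟨p', q', hp, hq⟩ => ?_
    rw [← B.πQ_map, hσ p q f p' q' hp hq, πQ_tau, hq]
  · intro T T' g p q
    refine setSheaf_ext B.E (hR (P.obj.map g.op p) (Q.obj.map g.op q)) _ _ fun T'' f ⟨p', q', hp, hq⟩ => ?_
    rw [hσ _ _ f p' q' hp hq, ← ConcreteCategory.comp_apply, ← Functor.map_comp, ← op_comp,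
      hσ p q (f ≫ g) p' q' (hp.trans (by rw [op_comp, Functor.map_comp, ConcreteCategory.comp_apply]))
        (hq.trans (by rw [op_comp, Functor.map_comp, ConcreteCategory.comp_apply]))]
  · intro T p p₁ q
    refine setSheaf_ext B.E (J.intersection_covering (hR p q) (hR p₁ q)) _ _ fun T' f hf => ?_
    obtain ⟨⟨p', q', hp, hq⟩, ⟨p₁', q₁', hp₁, hq₁⟩⟩ := hf
    rw [hσ (p + p₁) q f (p' + p₁') q' (by rw [zsmul_add, hp, hp₁, map_add]) hq]
    simp only [B.add₁_map, hσ p q f p' q' hp hq, hσ p₁ q f p₁' q' hp₁ hq, tau_add₁]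
  · intro T p q q₁
    refine setSheaf_ext B.E (J.intersection_covering (hR p q) (hR p q₁)) _ _ fun T' f hf => ?_
    obtain ⟨⟨p', q', hp, hq⟩, ⟨p₁', q₁', hp₁, hq₁⟩⟩ := hf
    rw [hσ p (q + q₁) f p' (q' + q₁') hp (by rw [zsmul_add, hq, hq₁, map_add])]
    simp only [B.add₂_map, hσ p q f p' q' hp hq, hσ p q₁ f p' q₁' hp hq₁, tau_add₂]

end Groth.Agent.AbSch7
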