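import Groth.Agent.Rig93.General
import Groth.Agent.Rig93.Fibre
import Mathlib.AlgebraicGeometry.AffineSpace

/-!
For a proper flat morphism of finite presentation with a section whose fibres have only constant functions, the
direct image of the structure sheaf is the structure sheaf, over any base.
-/

set_option autoImplicit false

universe u

open CategoryTheory CategoryTheory.Limits AlgebraicGeometry

namespace Groth.Agent.AbSch7

set_option backward.isDefEq.respectTransparency false

theorem appTop_bijective_general {X T : Scheme.{u}} (f : X ⟶ T) [IsProper f] [Flat f]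
    [LocallyOfFinitePresentation f] (e : T ⟶ X) (he : e ≫ f = 𝟙 T)
    (h0 : ∀ s : T, Function.Bijective (pullback.snd f (T.fromSpecResidueField s)).appTop) :
    Function.Bijective f.appTop.hom := by
  refine ⟨fun a b h => ?_, fun c => ?_⟩
  · have h1 : ∀ z, e.appTop.hom (f.appTop.hom z) = z := fun z => by
      rw [← CommRingCat.comp_apply, ← Scheme.Hom.comp_appTop, he]; rfl
    rw [← h1 a, h, h1 b]
  · let A := 𝔸(PUnit.{u+1}; T)
    let q : A ⟶ T := A ↘ T
    let g : X ⟶ A := AffineSpace.homOfVector f fun _ => c
    have hg : g ≫ q = f := AffineSpace.homOfVector_over _ _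
    obtain ⟨-, -, hfac⟩ := Rig93.collapse_general f q g hg h0
    have hcol : ((⊤ : T.Opens) : Set T) ⊆ Rig93.collapse f g := by
      intro s _ x x' hx hx'
      let p := pullback.snd f (T.fromSpecResidueField s)
      let ι := pullback.fst f (T.fromSpecResidueField s)
      obtain ⟨d, hd⟩ := (h0 s).2 (ι.appTop.hom c)
      have hι : ι ≫ g = p ≫ AffineSpace.homOfVector (T.fromSpecResidueField s) (fun _ => d) := by
        rw [AffineSpace.comp_homOfVector, AffineSpace.comp_homOfVector, pullback.condition]
        congr 1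
        funext _
        exact hd.symm
      have hr : ∀ z, f z = s → ∃ w, ι w = z := fun z hz => by
        have : z ∈ Set.range ι := by
          rw [Scheme.Pullback.range_fst, Scheme.range_fromSpecResidueField]; exact hz
        exact this
      obtain ⟨w, rfl⟩ := hr x hx
      obtain ⟨w', rfl⟩ := hr x' hx'
      show g (ι w) = g (ι w')
      rw [← Scheme.Hom.comp_apply, ← Scheme.Hom.comp_apply, hι, Scheme.Hom.comp_apply, Scheme.Hom.comp_apply,
        Subsingleton.elim (p w) (p w')]
    obtain ⟨k, hk, hkg⟩ := hfac ⊤ hcol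
    let k' : T ⟶ A := T.topIso.inv ≫ k
    have hk' : g = f ≫ k' := by
      have hι : IsIso (f ⁻¹ᵁ (⊤ : T.Opens)).ι := inferInstanceAs (IsIso (Scheme.topIso _).hom)
      rw [← cancel_epi (f ⁻¹ᵁ (⊤ : T.Opens)).ι, hkg, ← morphismRestrict_ι_assoc]
      simp [k', ← Scheme.topIso_hom]
    refine ⟨k'.appTop.hom (AffineSpace.coord T PUnit.unit.{u+1}), ?_⟩
    rw [← CommRingCat.comp_apply, ← Scheme.Hom.comp_appTop, ← hk']
    exact AffineSpace.homOfVector_appTop_coord _ _ _

theorem app_bijective_general {X T : Scheme.{u}} (f : X ⟶ T) [IsProper f] [Flat f]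
    [LocallyOfFinitePresentation f] [GeometricallyConnected f] [GeometricallyReduced f]
    (e : T ⟶ X) (he : e ≫ f = 𝟙 T) (U : T.Opens) :
    Function.Bijective (f.app U).hom := by
  have hs := isPullback_morphismRestrict f U
  let e' : (U : Scheme.{u}) ⟶ (f ⁻¹ᵁ U : Scheme.{u}) :=
    hs.lift (𝟙 _) (U.ι ≫ e) (by rw [Category.id_comp, Category.assoc, he, Category.comp_id])
  have h := appTop_bijective_general (f ∣_ U) e' (hs.lift_fst _ _ _)
    (fun s => Rig93.h0_of_geometrically (f ∣_ U) s)
  rw [Scheme.Hom.appTop, morphismRestrict_app] at h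
  have h2 : Function.Bijective (f.app (U.ι ''ᵁ ⊤)).hom := by
    exact (Function.Bijective.of_comp_iff'
      (ConcreteCategory.bijective_of_isIso (X.presheaf.map (eqToHom _).op)) _).1 h
  have e : U.ι ''ᵁ ⊤ = U := U.ι_image_top
  rwa [e] at h2

end Groth.Agent.AbSch7
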