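import Mathlib

/-!
Rigidity: the locus where a morphism collapses the fibres of a morphism with trivial direct image
of the structure sheaf.
-/

set_option autoImplicit false
universe u

open CategoryTheory CategoryTheory.Limits AlgebraicGeometry TopologicalSpace

namespace Groth.Agent.AbSch7

theorem epi_of_app_injective {X T : Scheme.{u}} (f : X ⟶ T) [Surjective f]
    (hinj : ∀ U : T.Opens, Function.Injective (f.app U).hom) : Epi f := by
  refine ⟨fun {Z} g₁ g₂ h => ?_⟩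
  have hb : g₁.base = g₂.base := by
    ext z
    obtain ⟨y, rfl⟩ := f.surjective z
    exact congrArg (fun k : X ⟶ Z => k.base y) h
  refine Scheme.Hom.ext hb fun U => ?_
  have : Mono (f.app (g₂ ⁻¹ᵁ U)) := ConcreteCategory.mono_of_injective _ (hinj _)
  rw [← cancel_mono (f.app (g₂ ⁻¹ᵁ U))]
  have h' := Scheme.Hom.congr_app h U
  simp only [Scheme.Hom.comp_app] at h'
  rw [Category.assoc]
  erw [Scheme.Hom.naturality]
  rw [← Category.assoc]
  erw [h']
  have e : ∀ {V : X.Opens} (i : Opposite.op V ⟶ Opposite.op V), X.presheaf.map i = 𝟙 _ := fun i => by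
    rw [Subsingleton.elim i (𝟙 _), CategoryTheory.Functor.map_id]
  exact (Category.assoc _ _ _).trans ((congrArg (CategoryStruct.comp _)
    ((X.presheaf.map_comp _ _).symm.trans (e _))).trans (Category.comp_id _))

variable {X Y T : Scheme.{u}} (f : X ⟶ T) (h : X ⟶ Y)

theorem bijective_app_morphismRestrict (hb : ∀ U : T.Opens, Function.Bijective (f.app U).hom)
    (U : T.Opens) (V : U.toScheme.Opens) : Function.Bijective ((f ∣_ U).app V).hom := by
  rw [morphismRestrict_app]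
  exact (Function.Bijective.of_comp_iff'
    (ConcreteCategory.bijective_of_isIso (X.presheaf.map (eqToHom _).op)) _).2 (hb _)

theorem epi_morphismRestrict [Surjective f] (hb : ∀ U : T.Opens, Function.Bijective (f.app U).hom)
    (U : T.Opens) : Epi (f ∣_ U) :=
  have : Surjective (f ∣_ U) := IsZariskiLocalAtTarget.restrict ‹_› _
  epi_of_app_injective _ fun V => (bijective_app_morphismRestrict f hb U V).1

/-- Near a collapsed fibre the morphism factors through the base. -/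
theorem exists_factor_nhd (hb : ∀ U : T.Opens, Function.Bijective (f.app U).hom)
    (hcl : IsClosedMap f) {s : T} {y : Y} (hy : ∀ x : X, f x = s → h x = y) :
    ∃ (U : T.Opens) (k : U.toScheme ⟶ Y), s ∈ U ∧ (f ⁻¹ᵁ U).ι ≫ h = (f ∣_ U) ≫ k := by
  obtain ⟨_, ⟨V0, hV0, rfl⟩, hy0, -⟩ :=
    Y.isBasis_affineOpens.exists_subset_of_mem_open (Set.mem_univ y) isOpen_univ
  obtain ⟨V, hV, hyV⟩ : ∃ V : Y.Opens, IsAffineOpen V ∧ y ∈ V := ⟨V0, hV0, hy0⟩
  let U : T.Opens := ⟨(f '' ((h ⁻¹ᵁ V : X.Opens) : Set X)ᶜ)ᶜ,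
    (hcl _ (h ⁻¹ᵁ V).2.isClosed_compl).isOpen_compl⟩
  have hs : s ∈ U := by
    rintro ⟨x, hx, rfl⟩
    exact hx (show h x ∈ V by rw [hy x rfl]; exact hyV)
  let l : (f ⁻¹ᵁ U).toScheme ⟶ V.toScheme := IsOpenImmersion.lift V.ι ((f ⁻¹ᵁ U).ι ≫ h) (by
    rw [Scheme.Opens.range_ι]
    rintro _ ⟨x, rfl⟩
    by_contra hx
    exact x.2 ⟨x.1, hx, rfl⟩)
  have : IsAffine V.toScheme := hV
  have : IsIso (f ∣_ U).appTop :=
    (ConcreteCategory.isIso_iff_bijective _).2 (bijective_app_morphismRestrict f hb U ⊤)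
  refine ⟨U, U.toScheme.toSpecΓ ≫ Spec.map (l.appTop ≫ inv (f ∣_ U).appTop) ≫
    V.toScheme.isoSpec.inv ≫ V.ι, hs, ?_⟩
  rw [← Category.assoc (f ∣_ U), Scheme.toSpecΓ_naturality, Category.assoc, ← Spec.map_comp_assoc,
    Category.assoc, IsIso.inv_hom_id, Category.comp_id, ← Scheme.toSpecΓ_naturality_assoc,
    Scheme.toSpecΓ_isoSpec_inv_assoc]
  exact (IsOpenImmersion.lift_fac _ _ _).symm

/-- The set of points of the base over which the fibre is collapsed to one point. -/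
def collapsed : Set T := {s | ∃ y : Y, ∀ x : X, f x = s → h x = y}

theorem subset_collapsed {U : T.Opens} {k : U.toScheme ⟶ Y}
    (hk : (f ⁻¹ᵁ U).ι ≫ h = (f ∣_ U) ≫ k) : (U : Set T) ⊆ collapsed f h := by
  intro s hs
  refine ⟨k ⟨s, hs⟩, fun x hx => ?_⟩
  have h1 := congrArg (fun m : (f ⁻¹ᵁ U).toScheme ⟶ Y => m ⟨x, show f x ∈ U by rw [hx]; exact hs⟩) hk
  simp only [Scheme.Hom.comp_apply] at h1
  refine h1.trans (congrArg k (Subtype.ext ?_))
  exact (morphismRestrict_base_coe f U _).trans hx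

theorem isOpen_collapsed (hb : ∀ U : T.Opens, Function.Bijective (f.app U).hom)
    (hcl : IsClosedMap f) : IsOpen (collapsed f h) := by
  rw [isOpen_iff_forall_mem_open]
  rintro s ⟨y, hy⟩
  obtain ⟨U, k, hsU, hk⟩ := exists_factor_nhd f h hb hcl hy
  exact ⟨U, subset_collapsed f h hk, U.2, hsU⟩

/-- Over the collapsed locus the morphism factors uniquely through the base. -/
theorem exists_factor_collapsed [Surjective f] (hb : ∀ U : T.Opens, Function.Bijective (f.app U).hom)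
    (hcl : IsClosedMap f) (W : T.Opens) (hW : (W : Set T) ⊆ collapsed f h) :
    ∃ k : W.toScheme ⟶ Y, (f ⁻¹ᵁ W).ι ≫ h = (f ∣_ W) ≫ k := by
  have hex : ∀ s : W, ∃ (U : T.Opens) (k : U.toScheme ⟶ Y), U ≤ W ∧ s.1 ∈ U ∧
      (f ⁻¹ᵁ U).ι ≫ h = (f ∣_ U) ≫ k := fun s => by
    obtain ⟨y, hy⟩ := hW s.2
    obtain ⟨U, k, hsU, hk⟩ := exists_factor_nhd f h hb hcl hy
    refine ⟨U ⊓ W, T.homOfLE inf_le_left ≫ k, inf_le_right, ⟨hsU, s.2⟩, ?_⟩
    have e1 : (f ⁻¹ᵁ (U ⊓ W)).ι = X.homOfLE (show f ⁻¹ᵁ (U ⊓ W) ≤ f ⁻¹ᵁ U from fun x hx => hx.1) ≫ (f ⁻¹ᵁ U).ι :=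
      (Scheme.homOfLE_ι _ _).symm
    rw [e1, Category.assoc, hk, ← Category.assoc, ← Category.assoc]
    congr 1
    rw [← cancel_mono U.ι]
    simp only [Category.assoc, morphismRestrict_ι, Scheme.homOfLE_ι, Scheme.homOfLE_ι_assoc]
  choose U k hUW hsU hk using hex
  have hcomp : ∀ (s s' : W) (V : T.Opens) (h1 : V ≤ U s) (h2 : V ≤ U s'),
      T.homOfLE h1 ≫ k s = T.homOfLE h2 ≫ k s' := fun s s' V h1 h2 => by
    have := epi_morphismRestrict f hb V
    have e : ∀ (r : W) (hr : V ≤ U r), (f ∣_ V) ≫ T.homOfLE hr ≫ k r = (f ⁻¹ᵁ V).ι ≫ h := fun r hr => by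
      rw [← Category.assoc, show (f ∣_ V) ≫ T.homOfLE hr =
        X.homOfLE (show f ⁻¹ᵁ V ≤ f ⁻¹ᵁ U r from fun x hx => hr hx) ≫ (f ∣_ U r) by
          rw [← cancel_mono (U r).ι]
          simp only [Category.assoc, morphismRestrict_ι, Scheme.homOfLE_ι, Scheme.homOfLE_ι_assoc],
        Category.assoc, ← hk, Scheme.homOfLE_ι_assoc]
    exact (cancel_epi (f ∣_ V)).1 ((e s h1).trans (e s' h2).symm)
  let C : W.toScheme.OpenCover :=
    Scheme.Cover.mkOfCovers W (fun s => (U s).toScheme) (fun s => T.homOfLE (hUW s))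
      (fun x => ⟨x, ⟨⟨x.1, hsU x⟩, Subtype.ext (T.homOfLE_apply (hUW x) ⟨x.1, hsU x⟩)⟩⟩)
      (fun s => (inferInstance : IsOpenImmersion (T.homOfLE (hUW s))))
  refine ⟨Scheme.Cover.glueMorphisms C k (fun (s s' : W) => ?_), ?_⟩
  · show pullback.fst (T.homOfLE (hUW s)) (T.homOfLE (hUW s')) ≫ k s =
      pullback.snd (T.homOfLE (hUW s)) (T.homOfLE (hUW s')) ≫ k s'
    have hc : pullback.fst (T.homOfLE (hUW s)) (T.homOfLE (hUW s')) ≫ (U s).ι =
        pullback.snd (T.homOfLE (hUW s)) (T.homOfLE (hUW s')) ≫ (U s').ι := by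
      rw [← Scheme.homOfLE_ι T (hUW s), pullback.condition_assoc, Scheme.homOfLE_ι]
    let V : T.Opens := U s ⊓ U s'
    let q := pullback.fst (T.homOfLE (hUW s)) (T.homOfLE (hUW s')) ≫ (U s).ι
    have hq : Set.range q ⊆ Set.range V.ι := by
      rw [Scheme.Opens.range_ι]
      rintro _ ⟨z, rfl⟩
      refine ⟨(pullback.fst (T.homOfLE (hUW s)) (T.homOfLE (hUW s')) z).2, ?_⟩
      show q z ∈ U s'
      rw [show q = _ from hc]
      exact (pullback.snd (T.homOfLE (hUW s)) (T.homOfLE (hUW s')) z).2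
    have e1 : pullback.fst (T.homOfLE (hUW s)) (T.homOfLE (hUW s')) =
        IsOpenImmersion.lift V.ι q hq ≫ T.homOfLE inf_le_left := by
      rw [← cancel_mono (U s).ι, Category.assoc, Scheme.homOfLE_ι, IsOpenImmersion.lift_fac]
    have e2 : pullback.snd (T.homOfLE (hUW s)) (T.homOfLE (hUW s')) =
        IsOpenImmersion.lift V.ι q hq ≫ T.homOfLE inf_le_right := by
      rw [← cancel_mono (U s').ι, Category.assoc, Scheme.homOfLE_ι, IsOpenImmersion.lift_fac]
      exact hc.symm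
    rw [e1, e2, Category.assoc, Category.assoc, hcomp s s' V inf_le_left inf_le_right]
  · refine Scheme.Cover.hom_ext (Scheme.Cover.mkOfCovers (P := @IsOpenImmersion) W
      (fun s => (f ⁻¹ᵁ U s).toScheme)
      (fun s => X.homOfLE (show f ⁻¹ᵁ U s ≤ f ⁻¹ᵁ W from fun x hx => hUW s hx))
      (fun x => ⟨⟨f x.1, x.2⟩, ⟨⟨x.1, hsU ⟨f x.1, x.2⟩⟩,
        Subtype.ext (X.homOfLE_apply _ _)⟩⟩)
      (fun s => (inferInstance : IsOpenImmersion (X.homOfLE
        (show f ⁻¹ᵁ U s ≤ f ⁻¹ᵁ W from fun x hx => hUW s hx))))) _ _ fun (s : W) => ?_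
    show X.homOfLE (show f ⁻¹ᵁ U s ≤ f ⁻¹ᵁ W from fun x hx => hUW s hx) ≫ (f ⁻¹ᵁ W).ι ≫ h =
      X.homOfLE (show f ⁻¹ᵁ U s ≤ f ⁻¹ᵁ W from fun x hx => hUW s hx) ≫ (f ∣_ W) ≫ _
    have e : X.homOfLE (show f ⁻¹ᵁ U s ≤ f ⁻¹ᵁ W from fun x hx => hUW s hx) ≫ (f ∣_ W) =
        (f ∣_ U s) ≫ C.f s := by
      show _ = (f ∣_ U s) ≫ T.homOfLE (hUW s)
      rw [← cancel_mono W.ι]
      simp only [Category.assoc, morphismRestrict_ι, Scheme.homOfLE_ι, Scheme.homOfLE_ι_assoc]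
    rw [Scheme.homOfLE_ι_assoc, hk, ← Category.assoc (X.homOfLE _), e]
    exact (congrArg ((f ∣_ U s) ≫ ·) (Scheme.Cover.ι_glueMorphisms C k _ s)).symm.trans
      (Category.assoc _ _ _).symm

theorem mem_range_diagonal_of_factor {S : Scheme.{u}} (v : Y ⟶ S)
    (g : pullback f f ⟶ pullback v v) (hg1 : g ≫ pullback.fst v v = pullback.fst f f ≫ h)
    (hg2 : g ≫ pullback.snd v v = pullback.snd f f ≫ h) (W : T.Opens) (k : W.toScheme ⟶ Y)
    (hk : (f ⁻¹ᵁ W).ι ≫ h = (f ∣_ W) ≫ k) (z : ↥(pullback f f))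
    (hz : (pullback.fst f f ≫ f) z ∈ W) : g z ∈ Set.range (pullback.diagonal v) := by
  let Q : (pullback f f).Opens := (pullback.fst f f ≫ f) ⁻¹ᵁ W
  let l1 : Q.toScheme ⟶ (f ⁻¹ᵁ W).toScheme :=
    IsOpenImmersion.lift (f ⁻¹ᵁ W).ι (Q.ι ≫ pullback.fst f f) (by
      rw [Scheme.Opens.range_ι]; rintro _ ⟨x, rfl⟩; exact x.2)
  let l2 : Q.toScheme ⟶ (f ⁻¹ᵁ W).toScheme :=
    IsOpenImmersion.lift (f ⁻¹ᵁ W).ι (Q.ι ≫ pullback.snd f f) (by
      rw [Scheme.Opens.range_ι]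
      rintro _ ⟨x, rfl⟩
      show f ((pullback.snd f f) x.1) ∈ W
      rw [← Scheme.Hom.comp_apply, ← pullback.condition]
      exact x.2)
  have h1 : l1 ≫ (f ⁻¹ᵁ W).ι = Q.ι ≫ pullback.fst f f := IsOpenImmersion.lift_fac _ _ _
  have h2 : l2 ≫ (f ⁻¹ᵁ W).ι = Q.ι ≫ pullback.snd f f := IsOpenImmersion.lift_fac _ _ _
  have h12 : l1 ≫ (f ∣_ W) = l2 ≫ (f ∣_ W) := by
    rw [← cancel_mono W.ι, Category.assoc, Category.assoc, morphismRestrict_ι, ← Category.assoc,
      ← Category.assoc, h1, h2, Category.assoc, Category.assoc, pullback.condition]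
  have e : Q.ι ≫ pullback.fst f f ≫ h = Q.ι ≫ pullback.snd f f ≫ h := by
    rw [← reassoc_of% h1, ← reassoc_of% h2, hk, reassoc_of% h12]
  refine ⟨h (pullback.fst f f z), ?_⟩
  have e' : Q.ι ≫ g = (Q.ι ≫ pullback.fst f f ≫ h) ≫ pullback.diagonal v := by
    apply pullback.hom_ext
    · rw [Category.assoc, Category.assoc, pullback.diagonal_fst, hg1, Category.comp_id]
    · rw [Category.assoc, Category.assoc, pullback.diagonal_snd, hg2, Category.comp_id, ← e]
  have := congrArg (fun m : Q.toScheme ⟶ pullback v v => m ⟨z, hz⟩) e'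
  simp only [Scheme.Hom.comp_apply] at this
  exact this.symm

/-- The collapsed locus is closed, for a separated target. -/
theorem isClosed_collapsed [Surjective f] (hb : ∀ U : T.Opens, Function.Bijective (f.app U).hom)
    (hcl : IsClosedMap f) (hop : IsOpenMap (pullback.fst f f ≫ f)) {S : Scheme.{u}} (v : Y ⟶ S)
    [IsSeparated v] (p : T ⟶ S) (hf : h ≫ v = f ≫ p) : IsClosed (collapsed f h) := by
  let g : pullback f f ⟶ pullback v v := pullback.lift (pullback.fst f f ≫ h) (pullback.snd f f ≫ h)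
    (by rw [Category.assoc, Category.assoc, hf, pullback.condition_assoc])
  have hΔ : IsClosed (Set.range (pullback.diagonal v)) :=
    (pullback.diagonal v).isClosedEmbedding.isClosed_range
  have hE : IsClosed (g ⁻¹' Set.range (pullback.diagonal v)) := hΔ.preimage g.continuous
  have hopenW := isOpen_collapsed f h hb hcl
  obtain ⟨k, hk⟩ := exists_factor_collapsed f h hb hcl ⟨_, hopenW⟩ (le_refl _)
  suffices (collapsed f h)ᶜ = (pullback.fst f f ≫ f) '' (g ⁻¹' Set.range (pullback.diagonal v))ᶜ by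
    rw [← isOpen_compl_iff, this]
    exact hop _ hE.isOpen_compl
  ext s
  constructor
  · intro hs
    by_contra hno
    refine hs ?_
    obtain ⟨x0, hx0⟩ := f.surjective s
    refine ⟨h x0, fun x hx => ?_⟩
    obtain ⟨z, hz1, hz2⟩ := Scheme.Pullback.exists_preimage_pullback x x0 (hx.trans hx0.symm)
    have hz : z ∈ g ⁻¹' Set.range (pullback.diagonal v) := by
      by_contra hz
      exact hno ⟨z, hz, by rw [Scheme.Hom.comp_apply, hz1, hx]⟩
    obtain ⟨w, hw⟩ := hz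
    have e1 := congrArg (pullback.fst v v) hw
    have e2 := congrArg (pullback.snd v v) hw
    simp only [← Scheme.Hom.comp_apply, pullback.diagonal_fst, pullback.diagonal_snd, g,
      pullback.lift_fst, pullback.lift_snd] at e1 e2
    rw [Scheme.Hom.comp_apply, hz1] at e1
    rw [Scheme.Hom.comp_apply, hz2] at e2
    rw [← e1, ← e2]
  · rintro ⟨z, hz, rfl⟩ hW
    exact hz (mem_range_diagonal_of_factor f h v g (pullback.lift_fst _ _ _)
      (pullback.lift_snd _ _ _) _ k hk z hW)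

end Groth.Agent.AbSch7
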