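import Groth.Agent.AbSch7.SectionComp
import Groth.Agent.AbSch7.Biadd
import Groth.Agent.Unr55.Rigid
import Mathlib.AlgebraicGeometry.Morphisms.FlatRank

/-!
Lifting the multiplication of an abelian scheme along a finite étale cover with connected fibres and a
section above the unit.
-/

set_option autoImplicit false

universe u

open CategoryTheory CategoryTheory.Limits MonoidalCategory CartesianMonoidalCategory MonObj AlgebraicGeometry
  TopologicalSpace

namespace Groth.Agent.AbSch7

set_option backward.isDefEq.respectTransparency false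

theorem isConnected_sectionComp_inter {X S : Scheme.{u}} (f : X ⟶ S) [IsProper f] (σ : S ⟶ X)
    (hσ : σ ≫ f = 𝟙 S) (s : S) :
    _root_.IsConnected ({x : X | f.toNormalization x = f.toNormalization (σ (f x))} ∩ f ⁻¹' {s}) := by
  have hfσ : f (σ s) = s := by rw [← Scheme.Hom.comp_apply, hσ]; rfl
  have := Stein58.geometricallyConnected_toNormalization f
  have hN : ∀ y, f.fromNormalization (f.toNormalization y) = f y := fun y => by
    rw [← Scheme.Hom.comp_apply, Scheme.Hom.toNormalization_fromNormalization]
  suffices h : {x : X | f.toNormalization x = f.toNormalization (σ (f x))} ∩ f ⁻¹' {s} =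
      f.toNormalization ⁻¹' {f.toNormalization (σ s)} by
    rw [h]; exact f.toNormalization.isConnected_preimage_singleton _
  ext x
  refine ⟨fun ⟨h1, h2⟩ => ?_, fun h => ?_⟩
  · have h1' : f.toNormalization x = f.toNormalization (σ (f x)) := h1
    rw [show f x = s from h2] at h1'
    exact h1'
  · have h' := congrArg (fun m => f.fromNormalization m) (show f.toNormalization x = f.toNormalization (σ s) from h)
    simp only [hN] at h'
    refine ⟨?_, h'.trans hfσ⟩
    show f.toNormalization x = f.toNormalization (σ (f x))
    rw [h'.trans hfσ]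
    exact h

/-- A morphism with a section and connected fibres has geometrically connected fibres. -/
theorem geometricallyConnected_of_preimage {X S : Scheme.{u}} (f : X ⟶ S) (σ : S ⟶ X) (hσ : σ ≫ f = 𝟙 S)
    (h : ∀ s, _root_.IsConnected (f ⁻¹' {s})) : GeometricallyConnected f := by
  refine geometricallyConnected_of_section f σ hσ fun s => ?_
  have hs := h s
  rw [← f.range_fiberι s] at hs
  exact connectedSpace_iff_univ.2 ⟨⟨hs.nonempty.choose_spec.choose, trivial⟩,
    (f.fiberι s).isEmbedding.isInducing.isPreconnected_image.1 (by rw [Set.image_univ]; exact hs.isPreconnected)⟩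

variable {S : Scheme.{u}}

/-- A clopen subset containing a section of a family with connected fibres is everything. -/
theorem eq_univ_of_section {W : Over S} [GeometricallyConnected W.hom] (w0 : 𝟙_ (Over S) ⟶ W) {U : Set W.left}
    (hU : IsClopen U) (h : ∀ s : S, w0.left s ∈ U) : U = Set.univ :=
  Set.eq_univ_of_forall fun x =>
    (W.hom.isConnected_preimage_singleton (W.hom x)).isPreconnected.subset_isClopen hU
      ⟨_, congrArg (fun k : S ⟶ S => k (W.hom x)) (Over.w w0), h _⟩ rfl

/-- Rigidity of maps to an unramified separated scheme. -/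
theorem eq_of_comp_eq_fibres {W Y X : Over S} (f : Y ⟶ X) [FormallyUnramified f.left] [LocallyOfFiniteType f.left]
    [IsSeparated f.left] [GeometricallyConnected W.hom] (a b : W ⟶ Y) (hw : a ≫ f = b ≫ f)
    (w0 : 𝟙_ (Over S) ⟶ W) (h : w0 ≫ a = w0 ≫ b) : a = b := by
  obtain ⟨O, hO, hmem, hcl⟩ := Unr55.exists_eqLocus f.left a.left b.left (congrArg Over.Hom.left hw)
  have hO' : O = ⊤ := SetLike.coe_injective
    (eq_univ_of_section w0 ⟨hcl ‹_›, O.2⟩ fun s => hmem w0.left (congrArg Over.Hom.left h) ⟨s, rfl⟩)
  subst hO'
  ext : 1
  exact (cancel_epi (Scheme.topIso W.left).hom).mp hO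

/-- A finite étale morphism to a family with connected fibres is an isomorphism as soon as it is one above a
section. -/
theorem isIso_of_section {V : Scheme.{u}} {W : Over S} [GeometricallyConnected W.hom] (p : V ⟶ W.left)
    [IsFinite p] [Etale p] (w0 : 𝟙_ (Over S) ⟶ W) [IsIso (pullback.snd p w0.left)] : IsIso p := by
  rw [Scheme.Hom.isIso_iff_finrank_eq]
  have h1 : ∀ s : S, p.finrank (w0.left s) = 1 := fun s => by
    rw [← Scheme.Hom.finrank_pullback_snd p w0.left s, Scheme.Hom.finrank_eq_one_of_isIso]
    rfl
  have hu := eq_univ_of_section w0 ((p.isLocallyConstant_finrank).isClopen_fiber 1) h1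
  exact funext fun w => (Set.ext_iff.1 hu w).2 trivial

/-- Restriction of a morphism to an open closed subscheme. -/
theorem isClosedImmersion_ι {X : Scheme.{u}} (U : X.Opens) (h : IsClosed (U : Set X)) : IsClosedImmersion U.ι :=
  IsClosedImmersion.of_isPreimmersion U.ι (by rw [Scheme.Opens.range_ι]; exact h)

theorem tensor_left_finite_etale {A B C D : Over S} (a : A ⟶ B) (c : C ⟶ D) [IsFinite a.left] [Etale a.left]
    [IsFinite c.left] [Etale c.left] : IsFinite (a ⊗ₘ c).left ∧ Etale (a ⊗ₘ c).left := by
  rw [Over.tensorHom_left]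
  exact ⟨MorphismProperty.pullbackMap (P := @IsFinite) inferInstance inferInstance (Over.w a).symm (Over.w c).symm,
    MorphismProperty.pullbackMap (P := @Etale) inferInstance inferInstance (Over.w a).symm (Over.w c).symm⟩

end Groth.Agent.AbSch7
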