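import Mathlib

/-!
Functions on a proper flat scheme over a Noetherian local ring, vanishing along a section, vanish
if the closed fibre has only constant functions.
-/

set_option autoImplicit false
universe u

open CategoryTheory CategoryTheory.Limits AlgebraicGeometry TopologicalSpace TensorProduct Opposite

namespace Groth.Agent.AbSch7

theorem exists_minimal_generators {A : Type u} [CommRing A] [IsLocalRing A] (I : Ideal A)
    (hI : I.FG) : ∃ (n : ℕ) (μ : Fin n → A), Ideal.span (Set.range μ) = I ∧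
      ∀ c : Fin n → A, ∑ i, c i * μ i ∈ IsLocalRing.maximalIdeal A * I →
        ∀ i, c i ∈ IsLocalRing.maximalIdeal A := by
  classical
  have hex : ∃ n, ∃ μ : Fin n → A, Ideal.span (Set.range μ) = I :=
    Submodule.fg_iff_exists_fin_generating_family.1 hI
  obtain ⟨μ, hμ⟩ := Nat.find_spec hex
  refine ⟨Nat.find hex, μ, hμ, fun c hc j => ?_⟩
  by_contra hj
  generalize hn : Nat.find hex = n at μ c hμ hc j hj
  cases n with
  | zero => exact j.elim0
  | succ n =>
    refine Nat.find_min hex (m := n) (by omega) ⟨μ ∘ j.succAbove, ?_⟩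
    set J := Ideal.span (Set.range (μ ∘ j.succAbove)) with hJ
    set m := IsLocalRing.maximalIdeal A
    have hJI : J ≤ I := hμ ▸ Ideal.span_mono (Set.range_comp_subset_range _ _)
    refine le_antisymm hJI (Submodule.le_of_le_smul_of_le_jacobson_bot hI
      (IsLocalRing.maximalIdeal_le_jacobson _) ?_)
    rw [← hμ, Ideal.span_le]
    rintro _ ⟨i, rfl⟩
    show μ i ∈ J ⊔ m • Ideal.span (Set.range μ)
    rcases eq_or_ne i j with rfl | hij
    · obtain ⟨u, hu⟩ := (show IsUnit (c i) by simpa [m] using hj)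
      rw [Fin.sum_univ_succAbove _ i] at hc
      have h2 : c i * μ i ∈ J ⊔ m • Ideal.span (Set.range μ) := by
        rw [← add_sub_cancel_right (c i * μ i) (∑ l, c (i.succAbove l) * μ (i.succAbove l))]
        refine sub_mem (Submodule.mem_sup_right ?_) (Submodule.mem_sup_left (sum_mem fun l _ =>
          J.mul_mem_left _ (Ideal.subset_span ⟨l, rfl⟩)))
        rw [smul_eq_mul, hμ]
        exact hc
      rw [← hu] at h2
      simpa using Ideal.mul_mem_left _ (↑u⁻¹ : A) h2
    · obtain ⟨l, rfl⟩ := Fin.exists_succAbove_eq hij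
      exact Submodule.mem_sup_left (Ideal.subset_span ⟨l, rfl⟩)

theorem mem_map_of_sum_mem {A B : Type u} [CommRing A] [CommRing B] [Algebra A B] [Module.Flat A B]
    (m I : Ideal A) {n : ℕ} (μ : Fin n → A)
    (hμ : ∀ c : Fin n → A, ∑ i, c i * μ i ∈ m * I → ∀ i, c i ∈ m) (t : Fin n → B)
    (ht : ∑ i, algebraMap A B (μ i) * t i ∈ (m * I).map (algebraMap A B)) (i : Fin n) :
    t i ∈ m.map (algebraMap A B) := by
  classical
  let L : (Fin n → A) →ₗ[A] A ⧸ (m * I) :=
    (Submodule.mkQ (m * I)).comp (Fintype.linearCombination A μ)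
  let x : B ⊗[A] (Fin n → A) := ∑ l, t l ⊗ₜ Pi.single l 1
  have hx : LinearMap.lTensor B L x = 0 := by
    apply (TensorProduct.tensorQuotEquivQuotSMul B (m * I)).injective
    rw [map_zero]
    have : ∀ l, TensorProduct.tensorQuotEquivQuotSMul B (m * I)
        (LinearMap.lTensor B L (t l ⊗ₜ Pi.single l 1)) = Submodule.Quotient.mk (μ l • t l) := fun l => by
      have hl : L (Pi.single l 1) = Ideal.Quotient.mk (m * I) (μ l) := by
        show Submodule.mkQ (m * I) (Fintype.linearCombination A μ (Pi.single l 1)) = _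
        rw [Fintype.linearCombination_apply_single, one_smul]; rfl
      rw [LinearMap.lTensor_tmul, hl, TensorProduct.tensorQuotEquivQuotSMul_tmul_mk]
    rw [map_sum, map_sum]
    simp only [this]
    simp only [← Submodule.mkQ_apply]
    rw [← map_sum, Submodule.mkQ_apply, Submodule.Quotient.mk_eq_zero, Ideal.smul_top_eq_map]
    simpa [Algebra.smul_def] using ht
  obtain ⟨y, hy⟩ := (Module.Flat.lTensor_exact B (LinearMap.exact_subtype_ker_map L) x).1 hx
  have h1 : TensorProduct.rid A B (LinearMap.lTensor B (LinearMap.proj i) x) = t i := by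
    simp [x, map_sum, TensorProduct.rid_tmul, Pi.single_apply]
  rw [← h1, ← hy]
  clear hy
  induction y using TensorProduct.induction_on with
  | zero => simp
  | tmul b v =>
    rw [LinearMap.lTensor_tmul, LinearMap.lTensor_tmul, TensorProduct.rid_tmul, Algebra.smul_def]
    refine Ideal.mul_mem_right _ _ (Ideal.mem_map_of_mem _ ?_)
    refine hμ (v : Fin n → A) ?_ i
    have h := v.2
    rw [LinearMap.mem_ker, LinearMap.comp_apply, Submodule.mkQ_apply, Submodule.Quotient.mk_eq_zero,
      Fintype.linearCombination_apply] at h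
    simpa using h
  | add a b ha hb => simp only [map_add]; exact add_mem ha hb

theorem surjective_and_ker_of_isPushout {R S T P : CommRingCat.{u}} {f : R ⟶ S} {g : R ⟶ T}
    {inl : S ⟶ P} {inr : T ⟶ P} (H : IsPushout f g inl inr) (hg : Function.Surjective g.hom) :
    RingHom.ker inl.hom = (RingHom.ker g.hom).map f.hom ∧ Function.Surjective inl.hom := by
  set J := (RingHom.ker g.hom).map f.hom with hJ
  have hle : J ≤ RingHom.ker inl.hom := by
    rw [hJ, Ideal.map_le_iff_le_comap]
    intro r hr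
    show inl.hom (f.hom r) = 0
    rw [← CommRingCat.comp_apply, H.w, CommRingCat.comp_apply,
      show g.hom r = 0 from hr, map_zero]
  have hk : RingHom.ker g.hom ≤ RingHom.ker ((Ideal.Quotient.mk J).comp f.hom) := fun r hr =>
    RingHom.mem_ker.2 (Ideal.Quotient.eq_zero_iff_mem.2 (Ideal.mem_map_of_mem _ hr))
  let a : T →+* S ⧸ J := RingHom.liftOfSurjective g.hom hg ⟨(Ideal.Quotient.mk J).comp f.hom, hk⟩
  let d : P ⟶ CommRingCat.of (S ⧸ J) := H.desc (CommRingCat.ofHom (Ideal.Quotient.mk J))
    (CommRingCat.ofHom a) (by ext r; exact (RingHom.liftOfSurjective_comp_apply (f := g.hom) hg ⟨(Ideal.Quotient.mk J).comp f.hom, hk⟩ r).symm)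
  have hd : inl ≫ d = CommRingCat.ofHom (Ideal.Quotient.mk J) := H.inl_desc _ _ _
  refine ⟨le_antisymm (fun s hs => ?_) hle, fun p => ?_⟩
  · refine Ideal.Quotient.eq_zero_iff_mem.1 ?_
    have h0 : inl.hom s = 0 := hs
    have h := congrArg (fun k : S ⟶ _ => k.hom s) hd
    simp only [CommRingCat.hom_comp, RingHom.comp_apply, CommRingCat.hom_ofHom] at h
    rw [← h, h0, map_zero]
  · let ψ : CommRingCat.of (S ⧸ J) ⟶ P := CommRingCat.ofHom (Ideal.Quotient.lift J inl.hom hle)
    have hψ : d ≫ ψ = 𝟙 P := by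
      refine H.hom_ext ?_ ?_
      · rw [← Category.assoc, hd, Category.comp_id]; rfl
      · ext t
        obtain ⟨r, rfl⟩ := hg t
        have hw := congrArg (fun k : R ⟶ P => k.hom r) H.w
        simp only [CommRingCat.comp_apply] at hw
        rw [Category.comp_id, CommRingCat.comp_apply, CommRingCat.comp_apply, ← hw]
        have h := congrArg (fun k : S ⟶ _ => k.hom (f.hom r)) hd
        simp only [CommRingCat.hom_comp, RingHom.comp_apply, CommRingCat.hom_ofHom] at h
        exact congrArg ψ.hom h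
    obtain ⟨s, hs⟩ := Ideal.Quotient.mk_surjective (d.hom p)
    refine ⟨s, ?_⟩
    have := congrArg (fun k : P ⟶ P => k.hom p) hψ
    simp only [CommRingCat.comp_apply, CommRingCat.id_apply] at this
    rw [← this, ← hs]
    rfl

/-- Over a Noetherian local base, a function on a proper flat scheme vanishing along a section
vanishes, provided the closed fibre has only constant functions. -/
theorem eq_zero_of_section_local {T K X F : Scheme.{u}} [IsAffine T] [IsAffine K]
    [IsLocalRing Γ(T, ⊤)] [IsNoetherianRing Γ(T, ⊤)] {ι0 : K ⟶ T} {t0 : T}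
    (hrange : Set.range ι0 = {t0}) (ht0 : ∀ x : T, x ⤳ t0)
    (hq : Function.Surjective ι0.appTop.hom)
    (hker : RingHom.ker ι0.appTop.hom = IsLocalRing.maximalIdeal Γ(T, ⊤))
    (f : X ⟶ T) [IsProper f] [Flat f] {ι : F ⟶ X} {p : F ⟶ K} (H : IsPullback ι p f ι0)
    (hF : Function.Surjective p.appTop.hom) (e : T ⟶ X) (he : e ≫ f = 𝟙 T)
    (s : Γ(X, ⊤)) (hs : e.appTop.hom s = 0) : s = 0 := by
  classical
  set A := Γ(T, ⊤)
  set m := IsLocalRing.maximalIdeal A with hm
  let str : ∀ U : X.Opens, A →+* Γ(X, U) := fun U => (f.appLE ⊤ U (show U ≤ f ⁻¹ᵁ ⊤ from le_top)).hom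
  let res : ∀ {U V : X.Opens}, V ≤ U → Γ(X, U) →+* Γ(X, V) := fun h => (X.presheaf.map (homOfLE h).op).hom
  have hstr : ∀ {U V : X.Opens} (h : V ≤ U) (a : A), res h (str U a) = str V a := fun h a => by
    show (X.presheaf.map _).hom ((f.appLE _ _ _).hom a) = _
    rw [← CommRingCat.comp_apply, Scheme.Hom.appLE_map]
  have hrr : ∀ {U V W : X.Opens} (h : V ≤ U) (h' : W ≤ V) (x : Γ(X, U)),
      res h' (res h x) = res (h'.trans h) x := fun h h' x => by
    show (X.presheaf.map _).hom ((X.presheaf.map _).hom x) = _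
    rw [← CommRingCat.comp_apply, ← Functor.map_comp]; rfl
  have hflat : ∀ U : X.affineOpens, (str U).Flat := fun U =>
    f.flat_appLE (isAffineOpen_top T) U.2 _
  have hkerU : ∀ U : X.affineOpens, RingHom.ker (ι.app U).hom = m.map (str U) := fun U => by
    have hiso := isIso_pushoutSection_of_isAffineOpen (US := ⊤) (UT := ⊤) (UX := (U : X.Opens))
      (UY := ι ⁻¹ᵁ U) H (by simp) (by simp) (by simp) (isAffineOpen_top _) (isAffineOpen_top _) U.2
    have hp := (isIso_pushoutSection_iff ..).1 hiso
    have h1 := (surjective_and_ker_of_isPushout hp (by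
      rwa [show ι0.appLE ⊤ ⊤ (by simp) = ι0.appTop from Scheme.Hom.appLE_eq_app ..])).1
    rw [show ι.appLE U (ι ⁻¹ᵁ U) (le_refl _) = ι.app U from (Scheme.Hom.app_eq_appLE ι).symm,
      show ι0.appLE ⊤ ⊤ (by simp) = ι0.appTop from Scheme.Hom.appLE_eq_app .., hker] at h1
    exact h1
  have hFF : ∀ {U V W : (Opens F)ᵒᵖ} (a : U ⟶ V) (b : V ⟶ W) (x : F.presheaf.obj U),
      (F.presheaf.map b).hom ((F.presheaf.map a).hom x) = (F.presheaf.map (a ≫ b)).hom x :=
    fun a b x => by rw [Functor.map_comp]; rfl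
  have key : ∀ j : ℕ, ∀ U : X.affineOpens, res le_top s ∈ (m ^ j).map (str U) := by
    intro j
    induction j with
    | zero => intro U; rw [pow_zero, Ideal.one_eq_top, Ideal.map_top]; trivial
    | succ j ih =>
      intro U0
      obtain ⟨n, μ, hμ, hμc⟩ := exists_minimal_generators (m ^ j) (IsNoetherian.noetherian _)
      have hrep : ∀ U : X.affineOpens, ∃ t : Fin n → Γ(X, U),
          ∑ i, str U (μ i) * t i = res le_top s := fun U => by
        have h := ih U
        rw [← hμ, Ideal.map_span, ← Set.range_comp, Ideal.mem_span_range_iff_exists_fun] at h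
        obtain ⟨t, ht⟩ := h
        exact ⟨t, by rw [← ht]; exact Finset.sum_congr rfl fun i _ => mul_comm _ _⟩
      choose t ht using hrep
      have hdiff : ∀ (U : X.affineOpens) (u : Fin n → Γ(X, U)),
          ∑ i, str U (μ i) * u i ∈ (m * m ^ j).map (str U) → ∀ i, (ι.app U).hom (u i) = 0 := by
        intro U u hu i
        rw [← RingHom.mem_ker, hkerU]
        let := (str U).toAlgebra
        have : Module.Flat A Γ(X, U) := hflat U
        exact mem_map_of_sum_mem m (m ^ j) μ hμc u hu i
      have hres : ∀ {U V : X.Opens} (h : V ≤ U) (x : Γ(X, U)),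
          F.presheaf.map (homOfLE ((Opens.map ι.base).map (homOfLE h)).le).op ((ι.app U).hom x) =
            (ι.app V).hom (res h x) := fun h x => by
        show (F.presheaf.map _).hom ((ι.app _).hom x) = (ι.app _).hom ((X.presheaf.map _).hom x)
        rw [← CommRingCat.comp_apply, ← CommRingCat.comp_apply, Scheme.Hom.naturality]
        rfl
      have hglue : ∀ i, ∃ r : Γ(F, ⊤), ∀ U : X.affineOpens,
          F.presheaf.map (homOfLE le_top).op r = (ι.app U).hom (t U i) := by
        intro i
        refine (F.sheaf.existsUnique_gluing' (fun U : X.affineOpens => ι ⁻¹ᵁ (U : X.Opens)) ⊤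
          (fun U => homOfLE le_top) (fun z _ => ?_) (fun U => (ι.app U).hom (t U i)) ?_).exists
        · obtain ⟨_, ⟨W, hW, rfl⟩, hzW, -⟩ := X.isBasis_affineOpens.exists_subset_of_mem_open
            (Set.mem_univ (ι z)) isOpen_univ
          exact Opens.mem_iSup.2 ⟨⟨W, hW⟩, hzW⟩
        · intro U U'
          refine F.sheaf.eq_of_locally_eq'
            (fun W : {W : X.affineOpens // (W : X.Opens) ≤ (U : X.Opens) ⊓ U'} => ι ⁻¹ᵁ (W : X.Opens))
            _ (fun W => homOfLE fun z (hz : ι z ∈ (W.1 : X.Opens)) => W.2 hz) (fun z hz => ?_) _ _ (fun W => ?_)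
          · obtain ⟨_, ⟨W, hW, rfl⟩, hzW, hWU⟩ := X.isBasis_affineOpens.exists_subset_of_mem_open
              (show ι z ∈ (((U : X.Opens) ⊓ U' : X.Opens) : Set X) from hz) (Opens.is_open' _)
            exact Opens.mem_iSup.2 ⟨⟨⟨W, hW⟩, hWU⟩, hzW⟩
          · have hU := W.2.trans inf_le_left
            have hU' := W.2.trans inf_le_right
            show (F.presheaf.map _).hom ((F.presheaf.map _).hom _) =
              (F.presheaf.map _).hom ((F.presheaf.map _).hom _)
            refine ((hFF _ _ _).trans (hres hU (t U i))).trans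
              (.trans ?_ ((hFF _ _ _).trans (hres hU' (t U' i))).symm)
            rw [← sub_eq_zero, ← map_sub]
            refine hdiff W.1 (fun l => res hU (t U l) - res hU' (t U' l)) ?_ i
            have e1 : ∀ (V : X.affineOpens) (hV : (W.1 : X.Opens) ≤ V),
                ∑ l, str W.1 (μ l) * res hV (t V l) = res le_top s := fun V hV => by
              rw [← hrr le_top hV, ← ht V, map_sum]
              exact Finset.sum_congr rfl fun l _ => by rw [map_mul, hstr]
            simp only [mul_sub, Finset.sum_sub_distrib, e1, sub_self]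
            exact zero_mem _
      choose r hr using hglue
      choose c hc using fun i => hF (r i)
      choose a ha using fun i => hq (c i)
      set σ := ∑ i, μ i * a i with hσ
      have hmain : ∀ U : X.affineOpens,
          res le_top s - str U σ ∈ (m ^ (j + 1)).map (str U) := fun U => by
        rw [← ht U, hσ, map_sum, ← Finset.sum_sub_distrib, pow_succ, Ideal.map_mul]
        refine sum_mem fun i _ => ?_
        rw [map_mul, ← mul_sub]
        refine Ideal.mul_mem_mul (Ideal.mem_map_of_mem _ (hμ ▸ Ideal.subset_span ⟨i, rfl⟩)) ?_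
        rw [← hkerU, RingHom.mem_ker, map_sub, ← hr i U, sub_eq_zero, ← hc, ← ha]
        show (F.presheaf.map _).hom (p.appTop.hom (ι0.appTop.hom (a i))) = _
        have h1 : p.appTop.hom (ι0.appTop.hom (a i)) = ι.appTop.hom (f.appTop.hom (a i)) := by
          rw [← CommRingCat.comp_apply, ← CommRingCat.comp_apply, ← Scheme.Hom.comp_appTop,
            ← Scheme.Hom.comp_appTop, H.w]
        rw [h1, ← hstr (le_top : (U : X.Opens) ≤ ⊤)]
        refine (hres le_top (f.appTop.hom (a i))).trans ?_
        congr 2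
        show _ = (f.appLE ⊤ ⊤ _).hom (a i)
        rw [show f.appLE ⊤ ⊤ (by simp) = f.appTop from Scheme.Hom.appLE_eq_app ..]
      obtain ⟨_, ⟨V, hV, rfl⟩, hzV, -⟩ := X.isBasis_affineOpens.exists_subset_of_mem_open
        (Set.mem_univ (e t0)) isOpen_univ
      have htop : (⊤ : T.Opens) ≤ e ⁻¹ᵁ V := fun x _ => (ht0 x).mem_open (e ⁻¹ᵁ V).2 hzV
      let φ := (e.appLE V ⊤ htop).hom
      have hφ : φ.comp (str V) = RingHom.id A := by
        refine RingHom.ext fun a => ?_
        show (e.appLE V ⊤ htop).hom ((f.appLE ⊤ V _).hom a) = a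
        rw [← CommRingCat.comp_apply, Scheme.Hom.appLE_comp_appLE]
        have h' : ∀ (k : T ⟶ T), k = 𝟙 T → ∀ h, k.appLE ⊤ ⊤ h = 𝟙 _ := by
          rintro _ rfl h
          simp [Scheme.Hom.appLE]
          all_goals exact (congrArg T.presheaf.map (Subsingleton.elim _ (𝟙 _))).trans (T.presheaf.map_id _)
        rw [h' _ he]; rfl
      have hσm : σ ∈ m ^ (j + 1) := by
        have h := Ideal.mem_map_of_mem φ (hmain ⟨V, hV⟩)
        rw [Ideal.map_map, hφ, Ideal.map_id, map_sub,
          show φ (str V σ) = σ from RingHom.congr_fun hφ σ] at h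
        have h0 : φ (res le_top s) = 0 := by
          show (e.appLE V ⊤ htop).hom ((X.presheaf.map _).hom s) = 0
          rw [← CommRingCat.comp_apply, Scheme.Hom.map_appLE,
            show e.appLE ⊤ ⊤ (by simp) = e.appTop from Scheme.Hom.appLE_eq_app .., hs]
        rw [h0, zero_sub] at h
        simpa using neg_mem h
      simpa using add_mem (hmain U0) (Ideal.mem_map_of_mem (str U0) hσm)
  have hNoeth : IsLocallyNoetherian X := by
    have : IsLocallyNoetherian T := LocallyOfFiniteType.isLocallyNoetherian T.isoSpec.hom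
    exact LocallyOfFiniteType.isLocallyNoetherian f
  have hvan : ∀ x : X, f x = t0 → ∃ O : X.Opens, x ∈ O ∧ res (le_top : O ≤ ⊤) s = 0 := by
    intro x hx
    obtain ⟨_, ⟨U, hU, rfl⟩, hxU, -⟩ := X.isBasis_affineOpens.exists_subset_of_mem_open
      (Set.mem_univ x) isOpen_univ
    have : IsNoetherianRing Γ(X, U) := IsLocallyNoetherian.component_noetherian ⟨U, hU⟩
    have hmem : res (le_top : U ≤ ⊤) s ∈ (⨅ i : ℕ, (m.map (str U)) ^ i • ⊤ : Submodule Γ(X, U) Γ(X, U)) := by
      rw [Submodule.mem_iInf]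
      intro i
      rw [smul_eq_mul, Ideal.mul_top, ← Ideal.map_pow]
      exact key i ⟨U, hU⟩
    obtain ⟨⟨r, hr⟩, hrs⟩ := (Ideal.mem_iInf_smul_pow_eq_bot_iff _ _).1 hmem
    have hrange' : x ∈ Set.range ι := by
      rw [← H.isoPullback_hom_fst, Scheme.Hom.comp_base, TopCat.coe_comp,
        H.isoPullback.hom.surjective.range_comp, Scheme.Pullback.range_fst, Set.mem_preimage, hrange]
      exact hx
    obtain ⟨z, rfl⟩ := hrange'
    have hunit : ι z ∈ X.basicOpen (1 - r) := by
      rw [Scheme.mem_basicOpen X _ _ hxU, map_sub, map_one]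
      refine IsLocalRing.isUnit_one_sub_self_of_mem_nonunits _ fun hu => ?_
      have hz : z ∈ ι ⁻¹ᵁ X.basicOpen r := (Scheme.mem_basicOpen X r (ι z) hxU).2 hu
      rw [Scheme.preimage_basicOpen, RingHom.mem_ker.1 ((hkerU ⟨U, hU⟩).ge hr),
        Scheme.basicOpen_zero] at hz
      exact hz
    refine ⟨_, hunit, ?_⟩
    have hle := X.basicOpen_le (1 - r)
    rw [← hrr le_top hle]
    have hu := RingedSpace.isUnit_res_basicOpen (X := X.toLocallyRingedSpace.toRingedSpace) (1 - r)
    refine hu.mul_right_eq_zero.1 ?_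
    show res hle (1 - r) * res hle (res le_top s) = 0
    rw [← map_mul, sub_mul, one_mul, show r * res le_top s = res le_top s from hrs, sub_self,
      map_zero]
  let Z : X.Opens := sSup {O | res (le_top : O ≤ ⊤) s = 0}
  have hZ : Z = ⊤ := by
    refine top_le_iff.1 fun x _ => ?_
    by_contra hx
    have hcl := f.isClosedMap _ Z.2.isClosed_compl
    obtain ⟨y, hy, hy0⟩ := (ht0 (f x)).mem_closed hcl ⟨x, hx, rfl⟩
    obtain ⟨O, hyO, hO⟩ := hvan y hy0
    exact hy (Opens.mem_sSup.2 ⟨O, hO, hyO⟩)
  refine X.sheaf.eq_of_locally_eq' (fun O : {O : X.Opens // res (le_top : O ≤ ⊤) s = 0} => O.1) ⊤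
    (fun _ => homOfLE le_top) (fun x hx => ?_) _ _ (fun O => ?_)
  · rw [← hZ, Opens.mem_sSup] at hx
    obtain ⟨O, hO, hxO⟩ := hx
    exact Opens.mem_iSup.2 ⟨⟨O, hO⟩, hxO⟩
  · exact O.2.trans (map_zero _).symm

end Groth.Agent.AbSch7
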