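import Groth.Agent.AbSch7.LoopField
import Groth.Agent.FlatMor67.FibreCrit
import Groth.Agent.RedPts82.Coord
import Mathlib.AlgebraicGeometry.Morphisms.FlatDescent

/-! A unital multiplication on a proper flat scheme with geometrically integral fibres has bijective
translations: the shear map is an isomorphism. -/

set_option autoImplicit false

universe u

set_option backward.isDefEq.respectTransparency false

open CategoryTheory CategoryTheory.Limits MonoidalCategory CartesianMonoidalCategory AlgebraicGeometry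

namespace Groth.Agent.AbSch7

open RedPts82

variable {S : Scheme.{u}} (X : Over S) [IsProper X.hom] [GeometricallyIntegral X.hom]
  (e : 𝟙_ (Over S) ⟶ X) (m : X ⊗ X ⟶ X)

/-- Translation by a geometric point. -/
theorem isIso_trans_geom (h₁ : lift (𝟙 X) (toUnit X ≫ e) ≫ m = 𝟙 X) (h₂ : lift (toUnit X ≫ e) (𝟙 X) ≫ m = 𝟙 X)
    {K : Type u} [Field K] [IsAlgClosed K] (φ : Spec (CommRingCat.of K) ⟶ S) (x : Over.mk φ ⟶ X) :
    IsIso (lift (fst (Over.mk φ) X) (lift (fst (Over.mk φ) X ≫ x) (snd (Over.mk φ) X) ≫ m)).left := by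
  let B := Spec (CommRingCat.of K)
  let Xb : Over B := Red.bc φ X
  have : IsProper Xb.hom := inferInstanceAs (IsProper (pullback.snd X.hom φ))
  have : GeometricallyIntegral Xb.hom := inferInstanceAs (GeometricallyIntegral (pullback.snd X.hom φ))
  let mb : Xb ⊗ Xb ⟶ Xb := ofBase φ (lift (toBase φ (fst Xb Xb)) (toBase φ (snd Xb Xb)) ≫ m)
  have hmb : ∀ {T : Over B} (a b : T ⟶ Xb), toBase φ (lift a b ≫ mb) = lift (toBase φ a) (toBase φ b) ≫ m := by
    intro T a b
    rw [toBase_comp, toBase_ofBase, comp_lift_assoc, ← toBase_comp, ← toBase_comp, lift_fst, lift_snd]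
  let eb : 𝟙_ (Over B) ⟶ Xb := ofBase φ (toUnit _ ≫ e)
  have heb : ∀ T : Over B, toBase φ (toUnit T ≫ eb) = toUnit _ ≫ e := fun T => by
    rw [toBase_comp, toBase_ofBase, ← Category.assoc, comp_toUnit]
  have h₁b : lift (𝟙 Xb) (toUnit Xb ≫ eb) ≫ mb = 𝟙 Xb := toBase_injective φ (by
    rw [hmb, heb, ← Category.comp_id (toBase φ (𝟙 Xb)), ← comp_toUnit (toBase φ (𝟙 Xb)), Category.assoc,
      ← comp_lift_assoc, h₁])
  have h₂b : lift (toUnit Xb ≫ eb) (𝟙 Xb) ≫ mb = 𝟙 Xb := toBase_injective φ (by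
    rw [hmb, heb, ← Category.comp_id (toBase φ (𝟙 Xb)), ← comp_toUnit (toBase φ (𝟙 Xb)), Category.assoc,
      ← comp_lift_assoc, h₂])
  let x0 : (Over.map φ).obj (𝟙_ (Over B)) ⟶ Over.mk φ := Over.homMk (𝟙 B) (by simp)
  let xb : 𝟙_ (Over B) ⟶ Xb := ofBase φ (x0 ≫ x)
  let L' : Xb ⟶ Xb := lift (toUnit Xb ≫ xb) (𝟙 Xb) ≫ mb
  have hiso : IsIso L'.left := isIso_trans_field Xb eb mb h₁b h₂b xb
  let L := lift (fst (Over.mk φ) X) (lift (fst (Over.mk φ) X ≫ x) (snd (Over.mk φ) X) ≫ m)
  let ψ : (Over.mk φ ⊗ X).left ≅ Xb.left := pullbackSymmetry φ X.hom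
  have hψ₁ : ψ.hom ≫ Xb.hom = (fst (Over.mk φ) X).left := pullbackSymmetry_hom_comp_snd φ X.hom
  have hψ₂ : ψ.hom ≫ pullback.fst X.hom φ = (snd (Over.mk φ) X).left := pullbackSymmetry_hom_comp_fst φ X.hom
  let Ψ : Over.mk φ ⊗ X ⟶ (Over.map φ).obj Xb := Over.homMk ψ.hom (by
    show ψ.hom ≫ Xb.hom ≫ φ = _
    rw [reassoc_of% hψ₁]
    exact Over.w (fst (Over.mk φ) X))
  suffices h : L.left = ψ.hom ≫ L'.left ≫ ψ.inv by
    show IsIso L.left
    rw [h]; infer_instance
  rw [← Category.assoc, Iso.eq_comp_inv]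
  apply pullback.hom_ext
  · rw [Category.assoc, hψ₂, ← Over.comp_left, lift_snd, Category.assoc,
      ← toBase_left φ L', hmb, toBase_comp, toBase_ofBase]
    show _ = (Ψ ≫ (lift ((Over.map φ).map (toUnit Xb) ≫ x0 ≫ x) (toBase φ (𝟙 Xb)) ≫ m)).left
    have e1 : fst (Over.mk φ) X ≫ x = Ψ ≫ (Over.map φ).map (toUnit Xb) ≫ x0 ≫ x := by
      rw [← Category.assoc ((Over.map φ).map _), ← Category.assoc Ψ]
      congr 1
      refine Over.OverMorphism.ext ?_
      show (fst (Over.mk φ) X).left = ψ.hom ≫ (toUnit Xb).left ≫ 𝟙 B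
      erw [Category.comp_id]
      rw [Over.toUnit_left]
      exact hψ₁.symm
    have e2 : snd (Over.mk φ) X = Ψ ≫ toBase φ (𝟙 Xb) := by
      refine Over.OverMorphism.ext ?_
      show (snd (Over.mk φ) X).left = ψ.hom ≫ (toBase φ (𝟙 Xb)).left
      rw [toBase_left, Over.id_left, Category.id_comp]
      exact hψ₂.symm
    rw [comp_lift_assoc, e1, e2]
  · show (L.left ≫ ψ.hom) ≫ Xb.hom = (ψ.hom ≫ L'.left) ≫ Xb.hom
    rw [Category.assoc, Category.assoc, hψ₁, Over.w L', hψ₁, ← Over.comp_left, lift_fst]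

variable [Flat X.hom] [LocallyOfFinitePresentation X.hom]

/-- The shear map of a unital multiplication is an isomorphism. -/
theorem isIso_shear (h₁ : lift (𝟙 X) (toUnit X ≫ e) ≫ m = 𝟙 X) (h₂ : lift (toUnit X ≫ e) (𝟙 X) ≫ m = 𝟙 X) :
    IsIso (lift (fst X X) m) := by
  let τ := lift (fst X X) m
  let g := (fst X X).left
  have hτg : τ.left ≫ g = g := by rw [← Over.comp_left, lift_fst]
  have : LocallyOfFinitePresentation g := inferInstanceAs (LocallyOfFinitePresentation (pullback.fst X.hom X.hom))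
  have : Flat g := inferInstanceAs (Flat (pullback.fst X.hom X.hom))
  have : LocallyOfFinitePresentation (τ.left ≫ g) := by rw [hτg]; infer_instance
  have : Flat (τ.left ≫ g) := by rw [hτg]; infer_instance
  have : IsIso τ.left := by
    refine FlatMor67.FibreCrit.isIso_of_fibres τ.left g fun x₀ => ?_
    let κ := X.left.residueField x₀
    let c : Spec (CommRingCat.of (AlgebraicClosure κ)) ⟶ Spec κ :=
      Spec.map (CommRingCat.ofHom (algebraMap κ (AlgebraicClosure κ)))
    let x := c ≫ X.left.fromSpecResidueField x₀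
    let xO : Over.mk (x ≫ X.hom) ⟶ X := Over.homMk x rfl
    let T := Over.mk (x ≫ X.hom)
    let L := lift (fst T X) (lift (fst T X ≫ xO) (snd T X) ≫ m)
    have hL : IsIso L.left := isIso_trans_geom X e m h₁ h₂ (x ≫ X.hom) xO
    let R : T ⊗ X ⟶ X ⊗ X := xO ▷ X
    have hR : IsPullback R.left (fst T X).left g x := by
      refine IsPullback.of_right (v₁₃ := X.hom) (h₁₂ := (snd X X).left) (h₂₂ := X.hom) ?_ ?_
        (IsPullback.of_hasPullback X.hom X.hom).flip
      · rw [← Over.comp_left, whiskerRight_snd]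
        exact (IsPullback.of_hasPullback (x ≫ X.hom) X.hom).flip
      · rw [← Over.comp_left, whiskerRight_fst, Over.comp_left]
        rfl
    have hRL : R ≫ τ = L ≫ R := by
      apply CartesianMonoidalCategory.hom_ext
      · simp [R, τ, L, T]
      · simp only [R, τ, L, Category.assoc, lift_snd, whiskerRight_snd]
        rw [show xO ▷ X = lift (fst T X ≫ xO) (snd T X) from
          CartesianMonoidalCategory.hom_ext _ _ (by simp [T]) (by simp [T])]
        exact (lift_snd _ _).symm
    have hsq : IsPullback R.left L.left τ.left R.left := by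
      refine IsPullback.of_bot (v₂₁ := (fst T X).left) (v₂₂ := g) (h₃₁ := x) ?_ ?_ hR
      · rw [hτg, ← Over.comp_left, lift_fst]
        exact hR
      · rw [← Over.comp_left, ← Over.comp_left, hRL]
    have h1 : IsIso (pullback.snd τ.left R.left) := by
      rw [show pullback.snd τ.left R.left = hsq.isoPullback.inv ≫ L.left by
        rw [Iso.eq_inv_comp, hsq.isoPullback_hom_snd]]
      infer_instance
    -- descend to the residue field
    let q : (T ⊗ X).left ⟶ g.fiber x₀ := pullback.lift R.left ((fst T X).left ≫ c)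
      (by rw [Category.assoc]; exact hR.w)
    have hq1 : q ≫ g.fiberι x₀ = R.left := pullback.lift_fst _ _ _
    have hq : IsPullback q (fst T X).left (g.fiberToSpecResidueField x₀) c := by
      refine IsPullback.of_right (h₁₂ := g.fiberι x₀) (h₂₂ := X.left.fromSpecResidueField x₀) (v₁₃ := g) ?_
        (pullback.lift_snd _ _ _) (IsPullback.of_hasPullback _ _)
      rw [hq1]
      exact hR
    have hqP : (@Surjective ⊓ @Flat ⊓ @QuasiCompact : MorphismProperty Scheme.{u}) q := by
      refine ⟨⟨?_, ?_⟩, ?_⟩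
      · exact MorphismProperty.of_isPullback (P := @Surjective) hq.flip (show Surjective c from ⟨Function.surjective_to_subsingleton (α := PrimeSpectrum (AlgebraicClosure κ)) (β := PrimeSpectrum κ) _⟩)
      · exact MorphismProperty.of_isPullback (P := @Flat) hq.flip (by infer_instance)
      · exact MorphismProperty.of_isPullback (P := @QuasiCompact) hq.flip (inferInstanceAs (QuasiCompact (Spec.map _)))
    show MorphismProperty.isomorphisms _ (pullback.snd τ.left (g.fiberι x₀))
    refine MorphismProperty.of_pullback_snd_of_descendsAlong (Q := @Surjective ⊓ @Flat ⊓ @QuasiCompact) (g := q) hqP ?_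
    show IsIso _
    have h2 : IsIso (pullback.snd τ.left (q ≫ g.fiberι x₀)) := by
      have key : ∀ w : (T ⊗ X).left ⟶ (X ⊗ X).left, w = R.left → IsIso (pullback.snd τ.left w) := by
        rintro w rfl; exact h1
      exact key _ hq1
    rw [← pullbackLeftPullbackSndIso_hom_snd]
    infer_instance
  have : IsIso ((Over.forget S).map τ) := this
  exact isIso_of_reflects_iso τ (Over.forget S)

end Groth.Agent.AbSch7
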