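import Groth.Agent.Rig93.GenGroup
import Mathlib.AlgebraicGeometry.Morphisms.ClosedImmersion

/-! Factorisation through a projection by rigidity (no group structure on the target), and closed
immersions of a Noetherian reduced scheme into itself. -/

set_option autoImplicit false

universe u

set_option backward.isDefEq.respectTransparency false

open CategoryTheory CategoryTheory.Limits MonoidalCategory CartesianMonoidalCategory AlgebraicGeometry TopologicalSpace

namespace Groth.Agent.AbSch7

variable {S : Scheme.{u}}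

theorem factor_of_slice (X Y G : Over S) [IsSeparated G.hom] [LocallyOfFinitePresentation G.hom]
    [QuasiCompact G.hom] [IsProper X.hom] [Flat X.hom] [LocallyOfFinitePresentation X.hom]
    (h0 : ∀ s : S, Function.Bijective (pullback.snd X.hom (S.fromSpecResidueField s)).appTop)
    (e : 𝟙_ (Over S) ⟶ Y)
    (hcl : ∀ U : Set Y.left, IsClopen U → Set.range e.left ⊆ U → U = Set.univ)
    (f : X ⊗ Y ⟶ G) (c : 𝟙_ (Over S) ⟶ G) (hs : Rig93.slice X e ≫ f = toUnit X ≫ c) :
    ∃ h : Y ⟶ G, f = snd X Y ≫ h := by
  let F : (X ⊗ Y).left ⟶ (G ⊗ Y).left := (lift f (snd X Y)).left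
  have : IsProper (snd X Y).left := inferInstanceAs (IsProper (pullback.snd X.hom Y.hom))
  have : Flat (snd X Y).left := inferInstanceAs (Flat (pullback.snd X.hom Y.hom))
  have : LocallyOfFinitePresentation (snd X Y).left :=
    inferInstanceAs (LocallyOfFinitePresentation (pullback.snd X.hom Y.hom))
  have : LocallyOfFinitePresentation (snd G Y).left :=
    inferInstanceAs (LocallyOfFinitePresentation (pullback.snd G.hom Y.hom))
  have : QuasiCompact (snd G Y).left := inferInstanceAs (QuasiCompact (pullback.snd G.hom Y.hom))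
  have : IsSeparated (snd G Y).left := inferInstanceAs (IsSeparated (pullback.snd G.hom Y.hom))
  have h0' : ∀ y : Y.left, Function.Bijective
      (pullback.snd (snd X Y).left (Y.left.fromSpecResidueField y)).appTop :=
    fun y => Rig93.h0_baseChange X.hom Y.hom h0 y
  have hF : F ≫ (snd G Y).left = (snd X Y).left := by rw [← Over.comp_left, lift_snd]
  have hs' : Rig93.slice X e ≫ lift f (snd X Y) = toUnit X ≫ lift c e := by
    rw [comp_lift, hs, comp_lift]
    congr 1
    exact lift_snd _ _
  have hcol : Set.range e.left ⊆ Rig93.collapse (snd X Y).left F := by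
    rintro _ ⟨s, rfl⟩
    have hv : ∀ z : ↥(X ⊗ Y).left, (snd X Y).left z = e.left s → F z = (lift c e).left s := by
      intro z hz
      obtain ⟨x, hx, hxs⟩ := Scheme.exists_preimage_of_isPullback (Rig93.isPullback_slice X e) z s hz
      rw [← hx, ← hxs]
      exact congrArg (fun m : X ⟶ G ⊗ Y => m.left x) hs'
    exact fun z z' hz hz' => (hv z hz).trans (hv z' hz').symm
  obtain ⟨ho, hc, hfac⟩ := Rig93.collapse_general (snd X Y).left (snd G Y).left F hF h0'
  obtain ⟨k, hk, hkF⟩ := hfac ⊤ (by rw [hcl _ ⟨hc, ho⟩ hcol]; exact Set.subset_univ _)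
  let t : Y.left ⟶ (G ⊗ Y).left := Y.left.topIso.inv ≫ k
  have ht : t ≫ (snd G Y).left = 𝟙 Y.left := by
    rw [Category.assoc, hk, ← Scheme.topIso_hom, Iso.inv_hom_id]
  have htF : F = (snd X Y).left ≫ t := by
    have : IsIso ((snd X Y).left ⁻¹ᵁ ⊤).ι := inferInstanceAs (IsIso (Scheme.topIso _).hom)
    rw [← cancel_epi ((snd X Y).left ⁻¹ᵁ ⊤).ι, hkF, ← morphismRestrict_ι_assoc]
    simp [t, ← Scheme.topIso_hom]
  have hw : (t ≫ (fst G Y).left) ≫ G.hom = Y.hom := by
    rw [Category.assoc, Over.w, ← Over.w (snd G Y), reassoc_of% ht]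
  refine ⟨Over.homMk (t ≫ (fst G Y).left) hw, ?_⟩
  ext : 1
  show f.left = (snd X Y).left ≫ t ≫ (fst G Y).left
  rw [← lift_fst f (snd X Y), Over.comp_left, ← Category.assoc, ← htF]

/-- A closed immersion of a reduced Noetherian scheme into itself is an isomorphism. -/
theorem isIso_closedImmersion_endo {X : Scheme.{u}} [IsReduced X] [NoetherianSpace X] (f : X ⟶ X)
    [IsClosedImmersion f] : IsIso f := by
  let C : ℕ → Closeds X := fun n => ⟨Set.range (f^[n] : X → X), by
    induction n with
    | zero => simp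
    | succ n ih =>
      rw [Function.iterate_succ', Set.range_comp]
      exact f.isClosedEmbedding.isClosedMap _ ih⟩
  obtain ⟨_, ⟨n, rfl⟩, hmin⟩ := wellFounded_lt.has_min (Set.range C) ⟨_, 0, rfl⟩
  have : Surjective f := ⟨fun x => by
    have hle : C (n + 1) ≤ C n := by
      rintro _ ⟨z, rfl⟩
      exact ⟨f z, (Function.iterate_succ_apply _ n z).symm⟩
    have he : C (n + 1) = C n := hle.eq_of_not_lt (hmin _ ⟨_, rfl⟩)
    have hx : f^[n] x ∈ C (n + 1) := by rw [he]; exact ⟨x, rfl⟩
    obtain ⟨z, hz⟩ := hx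
    rw [Function.iterate_succ_apply] at hz
    exact ⟨z, Function.Injective.iterate f.isClosedEmbedding.injective n hz⟩⟩
  exact isIso_of_isClosedImmersion_of_surjective f

end Groth.Agent.AbSch7
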