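import Groth.Agent.AbSch7.LoopBasic
import Groth.Agent.FlatMor67.ClosedNhd
import Groth.Agent.Curves2.ImageReduced
import Groth.Agent.Cyc90.Envelope
import Mathlib.AlgebraicGeometry.AlgClosed.Basic
import Mathlib.AlgebraicGeometry.Geometrically.Integral

/-! Translations of a unital multiplication on a proper variety over an algebraically closed field are
isomorphisms. -/

set_option autoImplicit false

universe u

set_option backward.isDefEq.respectTransparency false

open CategoryTheory CategoryTheory.Limits MonoidalCategory CartesianMonoidalCategory AlgebraicGeometry TopologicalSpace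

namespace Groth.Agent.AbSch7

section Left
variable {S : Scheme.{u}}

lemma isPullback_slice_left (X : Over S) {Y : Over S} (e : 𝟙_ (Over S) ⟶ Y) :
    IsPullback (lift (toUnit X ≫ e) (𝟙 X)).left X.hom (fst Y X).left e.left := by
  have h1 : (lift (toUnit X ≫ e) (𝟙 X)).left ≫ (snd Y X).left = 𝟙 X.left := by
    rw [← Over.comp_left, lift_snd]; rfl
  have h2 : (lift (toUnit X ≫ e) (𝟙 X)).left ≫ (fst Y X).left = X.hom ≫ e.left := by
    rw [← Over.comp_left, lift_fst, Over.comp_left, Over.toUnit_left]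
  refine IsPullback.of_right (v₁₃ := X.hom) (h₁₂ := (snd Y X).left) (h₂₂ := Y.hom) ?_ h2
    (IsPullback.of_hasPullback Y.hom X.hom).flip
  rw [h1, show e.left ≫ Y.hom = 𝟙 S from Over.w e]
  exact IsPullback.of_horiz_isIso ⟨by simp⟩

end Left

variable {K : Type u} [Field K] [IsAlgClosed K] (X : Over (Spec (CommRingCat.of K))) [IsProper X.hom]
  [GeometricallyIntegral X.hom] (e : 𝟙_ (Over (Spec (CommRingCat.of K))) ⟶ X) (m : X ⊗ X ⟶ X)

/-- Left translation by a point is an isomorphism. -/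
theorem isIso_trans_field (h₁ : lift (𝟙 X) (toUnit X ≫ e) ≫ m = 𝟙 X) (h₂ : lift (toUnit X ≫ e) (𝟙 X) ≫ m = 𝟙 X)
    (x : 𝟙_ (Over (Spec (CommRingCat.of K))) ⟶ X) : IsIso (lift (toUnit X ≫ x) (𝟙 X) ≫ m).left := by
  have : IsNoetherian (Spec (CommRingCat.of K)) := inferInstance
  have : IsLocallyNoetherian X.left := LocallyOfFiniteType.isLocallyNoetherian X.hom
  have : CompactSpace X.left := QuasiCompact.compactSpace_of_compactSpace X.hom
  have : IsNoetherian X.left := {}
  have : IsIntegral X.left := GeometricallyIntegral.isIntegral_of_subsingleton X.hom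
  have : IsProper (fst X X).left := inferInstanceAs (IsProper (pullback.fst X.hom X.hom))
  have : IsProper (X ⊗ X).hom := inferInstanceAs (IsProper (pullback.fst X.hom X.hom ≫ X.hom))
  have : IsLocallyNoetherian (X ⊗ X).left := LocallyOfFiniteType.isLocallyNoetherian (X ⊗ X).hom
  have : CompactSpace (X ⊗ X).left := QuasiCompact.compactSpace_of_compactSpace (X ⊗ X).hom
  have : IsNoetherian (X ⊗ X).left := {}
  have : IsIntegral (X ⊗ X).left := inferInstanceAs (IsIntegral (pullback X.hom X.hom))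
  let pt : Spec (CommRingCat.of K) := IsLocalRing.closedPoint K
  let τ : X ⊗ X ⟶ X ⊗ X := lift (fst X X) m
  have hτg : τ ≫ fst X X = fst X X := lift_fst _ _
  have : IsProper (τ.left ≫ (fst X X).left) := by rw [← Over.comp_left, hτg]; infer_instance
  have : IsProper τ.left := IsProper.of_comp τ.left (fst X X).left
  let j : X ⟶ X ⊗ X := lift (toUnit X ≫ e) (𝟙 X)
  have hjτ : j ≫ τ = j := by rw [comp_lift, lift_fst, h₂]
  -- the fibre of `τ` over the points of `{e} × X` is a reduced point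
  have hτgl : τ.left ≫ (fst X X).left = (fst X X).left := by rw [← Over.comp_left, hτg]
  have hjτl : j.left ≫ τ.left = j.left := by rw [← Over.comp_left, hjτ]
  have hpb : IsPullback j.left (𝟙 X.left) τ.left j.left :=
    IsPullback.of_bot (v₂₁ := X.hom) (v₂₂ := (fst X X).left) (h₃₁ := e.left)
      (by rw [Category.id_comp, hτgl]; exact isPullback_slice_left X e)
      (by rw [Category.id_comp, hjτl]) (isPullback_slice_left X e)
  have : IsClosedImmersion e.left := isClosedImmersion_of_comp_eq_id (Y := Spec (CommRingCat.of K)) X.hom e.left (Over.w e)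
  have hjci : IsClosedImmersion j.left :=
    MorphismProperty.of_isPullback (isPullback_slice_left X e).flip ‹IsClosedImmersion e.left›
  have hnhd : ∀ y : ↥(X ⊗ X).left, (fst X X).left y = e.left pt →
      ∃ U : (X ⊗ X).left.Opens, y ∈ U ∧ IsClosedImmersion (τ.left ∣_ U) := by
    intro y hy
    obtain ⟨z, hz, -⟩ := Scheme.exists_preimage_of_isPullback (isPullback_slice_left X e) y pt hy
    subst hz
    have : IsIso (j.left.residueFieldMap z) := (ConcreteCategory.isIso_iff_bijective _).mpr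
      ⟨RingHom.injective _, Cyc90.residueFieldMap_surjective j.left z⟩
    let r : Spec ((X ⊗ X).left.residueField (j.left z)) ⟶ X.left :=
      Spec.map (inv (j.left.residueFieldMap z)) ≫ X.left.fromSpecResidueField z
    have hr : r ≫ j.left = (X ⊗ X).left.fromSpecResidueField (j.left z) := by
      rw [Category.assoc, ← Scheme.Hom.SpecMap_residueFieldMap_fromSpecResidueField, ← Spec.map_comp_assoc,
        IsIso.hom_inv_id, Spec.map_id, Category.id_comp]
    have h3 : IsPullback (r ≫ j.left) (𝟙 _) τ.left (r ≫ j.left) :=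
      (IsPullback.of_vert_isIso (fst := r) (snd := 𝟙 _) (f := 𝟙 X.left) (g := r) ⟨by simp⟩).paste_horiz hpb
    rw [hr] at h3
    have h4 : IsIso (τ.left.fiberToSpecResidueField (j.left z)) := by
      have := h3.isoPullback_hom_snd
      show IsIso (pullback.snd τ.left _)
      rw [show pullback.snd τ.left ((X ⊗ X).left.fromSpecResidueField (j.left z)) = h3.isoPullback.inv by
        rw [← Iso.hom_comp_eq_id]; exact this]
      infer_instance
    have : UniversallyClosed (τ.left ∣_ (⊤ : (X ⊗ X).left.Opens)) := inferInstance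
    exact FlatMor67.ClosedNhd.exists_closedImmersion_nhd τ.left _ (Or.inr h4) ⊤ trivial
  -- a neighbourhood of the unit over which `τ` is a closed immersion, hence an isomorphism
  let W : (X ⊗ X).left.Opens := ⨆ U : {U : (X ⊗ X).left.Opens // IsClosedImmersion (τ.left ∣_ U)}, U.1
  let N : X.left.Opens := ⟨((fst X X).left '' (W : Set ↥(X ⊗ X).left)ᶜ)ᶜ,
    ((fst X X).left.isClosedMap _ W.2.isClosed_compl).isOpen_compl⟩
  have heN : e.left pt ∈ N := by
    rintro ⟨y, hy, hye⟩
    obtain ⟨U, hyU, hU⟩ := hnhd y hye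
    exact hy (Opens.mem_iSup.2 ⟨⟨U, hU⟩, hyU⟩)
  let V : (X ⊗ X).left.Opens := (fst X X).left ⁻¹ᵁ N
  have hVW : V ≤ W := fun y hy => by_contra fun h => hy ⟨y, h, rfl⟩
  have hτV : IsClosedImmersion (τ.left ∣_ V) := by
    refine IsZariskiLocalAtTarget.of_iSup_eq_top (P := @IsClosedImmersion)
      (fun U : {U : (X ⊗ X).left.Opens // IsClosedImmersion (τ.left ∣_ U)} => V.ι ⁻¹ᵁ U.1) ?_ fun U => ?_
    · rw [← Scheme.Hom.preimage_iSup, eq_top_iff]
      exact fun y _ => hVW y.2
    · rw [MorphismProperty.arrow_mk_iso_iff (P := @IsClosedImmersion) (morphismRestrictRestrict τ.left V _)]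
      have hle : V.ι ''ᵁ V.ι ⁻¹ᵁ U.1 ≤ U.1 := by
        rw [Scheme.Hom.image_preimage_eq_opensRange_inf]; exact inf_le_right
      rw [← show U.1.ι ''ᵁ U.1.ι ⁻¹ᵁ (V.ι ''ᵁ V.ι ⁻¹ᵁ U.1) = V.ι ''ᵁ V.ι ⁻¹ᵁ U.1 by
        rw [Scheme.Hom.image_preimage_eq_opensRange_inf, Scheme.Opens.opensRange_ι]; exact inf_eq_right.2 hle,
        ← MorphismProperty.arrow_mk_iso_iff (P := @IsClosedImmersion) (morphismRestrictRestrict τ.left U.1 _)]
      exact IsZariskiLocalAtTarget.restrict U.2 _
  have hpre : τ.left ⁻¹ᵁ V = V := by rw [← Scheme.Hom.comp_preimage, hτgl]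
  let ψ : (V : Scheme.{u}) ⟶ V := ((X ⊗ X).left.isoOfEq hpre.symm).hom ≫ τ.left ∣_ V
  have hψ : ψ ≫ V.ι = V.ι ≫ τ.left := by simp [ψ]
  have : IsClosedImmersion ψ := inferInstance
  have : NoetherianSpace ↥(V : Scheme.{u}) := V.ι.isOpenEmbedding.isInducing.noetherianSpace
  have : IsReduced (V : Scheme.{u}) := isReduced_of_isOpenImmersion V.ι
  have : IsIso ψ := isIso_closedImmersion_endo ψ
  -- the section of right inverses over `N`
  let Nv : Over (Spec (CommRingCat.of K)) := Over.mk (N.ι ≫ X.hom)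
  let ιN : Nv ⟶ X := Over.homMk N.ι rfl
  let q0 : Nv ⟶ X ⊗ X := lift ιN (toUnit Nv ≫ e)
  have hq0 : q0.left ≫ (fst X X).left = N.ι := by rw [← Over.comp_left, lift_fst]; rfl
  have hqV : Set.range q0.left ⊆ Set.range V.ι := by
    rintro _ ⟨n, rfl⟩
    rw [Scheme.Opens.range_ι]
    show (fst X X).left (q0.left n) ∈ N
    rw [← Scheme.Hom.comp_apply, hq0]
    exact n.2
  let s0 : Nv.left ⟶ (X ⊗ X).left := IsOpenImmersion.lift V.ι q0.left hqV ≫ inv ψ ≫ V.ι
  have hs0τ : s0 ≫ τ.left = q0.left := by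
    simp only [s0, Category.assoc, ← hψ, IsIso.inv_hom_id_assoc, IsOpenImmersion.lift_fac]
  have hs0g : s0 ≫ (fst X X).left = N.ι := by rw [← hτgl, reassoc_of% hs0τ, hq0]
  let s : Nv ⟶ X ⊗ X := Over.homMk s0 (by
    show s0 ≫ (X ⊗ X).hom = N.ι ≫ X.hom
    rw [← Over.w (fst X X), reassoc_of% hs0g])
  have hsm : s ≫ m = toUnit Nv ≫ e := by
    have : s ≫ τ = q0 := Over.OverMorphism.ext hs0τ
    simpa [τ, q0] using congrArg (· ≫ snd X X) this
  -- its closure
  have : NoetherianSpace ↥(N : Scheme.{u}) := N.ι.isOpenEmbedding.isInducing.noetherianSpace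
  have : NoetherianSpace ↥Nv.left := ‹NoetherianSpace ↥(N : Scheme.{u})›
  have : QuasiCompact s.left := ⟨fun U _ _ => NoetherianSpace.isCompact _⟩
  have : IsIntegral (N : Scheme.{u}) := by
    have : Nonempty (N : Scheme.{u}) := ⟨⟨_, heN⟩⟩
    exact isIntegral_of_isOpenImmersion N.ι
  have : IsIntegral Nv.left := ‹IsIntegral (N : Scheme.{u})›
  let Γs : Over (Spec (CommRingCat.of K)) := Over.mk (s.left.imageι ≫ (X ⊗ X).hom)
  let ιΓ : Γs ⟶ X ⊗ X := Over.homMk s.left.imageι rfl
  have : IsProper Γs.hom := inferInstanceAs (IsProper (s.left.imageι ≫ (X ⊗ X).hom))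
  have : IsReduced Γs.left := Curves2.isReduced_image s.left
  have : IrreducibleSpace ↥Γs.left := by
    have h := s.left.toImage.denseRange.closure_eq
    have h1 := ((IrreducibleSpace.isIrreducible_univ (N : Scheme.{u})).image s.left.toImage
      s.left.toImage.continuous.continuousOn).closure
    rw [Set.image_univ, h] at h1
    exact (irreducibleSpace_def _).mpr h1
  let toI : Nv ⟶ Γs := Over.homMk s.left.toImage (by
    show s.left.toImage ≫ s.left.imageι ≫ (X ⊗ X).hom = Nv.hom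
    rw [Scheme.Hom.toImage_imageι_assoc, Over.w])
  have hΓm : ιΓ ≫ m = toUnit Γs ≫ e := by
    ext : 1
    have := IsProper.toIsSeparated (f := X.hom)
    refine ext_of_isDominant_of_isSeparated X.hom (by rw [Over.w, Over.w]) s.left.toImage ?_
    have h : toI ≫ ιΓ = s := Over.OverMorphism.ext (Scheme.Hom.toImage_imageι _)
    have h' : toI ≫ ιΓ ≫ m = toI ≫ toUnit Γs ≫ e := by
      rw [reassoc_of% h, hsm]; simp
    exact congrArg CommaMorphism.left h'
  -- rigidity
  have : Nonempty X.left := ⟨e.left pt⟩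
  let P := X ⊗ X
  let f : Γs ⊗ P ⟶ X := lift (fst Γs P ≫ ιΓ ≫ fst X X)
    (lift (lift (fst Γs P ≫ ιΓ ≫ snd X X) (snd Γs P ≫ fst X X) ≫ m) (snd Γs P ≫ snd X X) ≫ m) ≫ m
  have hopr : ∀ {T : Over (Spec (CommRingCat.of K))} (a : T ⟶ X), lift a (toUnit T ≫ e) ≫ m = a := fun {T} a => by
    have := a ≫= h₁; rwa [comp_lift_assoc, Category.comp_id, ← Category.assoc, comp_toUnit] at this
  have hopl : ∀ {T : Over (Spec (CommRingCat.of K))} (a : T ⟶ X), lift (toUnit T ≫ e) a ≫ m = a := fun {T} a => by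
    have := a ≫= h₂; rwa [comp_lift_assoc, Category.comp_id, ← Category.assoc, comp_toUnit] at this
  have hopp : ∀ {T : Over (Spec (CommRingCat.of K))} (γ : T ⟶ Γs) (y z : T ⟶ X), lift γ (lift y z) ≫ f =
      lift (γ ≫ ιΓ ≫ fst X X) (lift (lift (γ ≫ ιΓ ≫ snd X X) y ≫ m) z ≫ m) ≫ m := by
    intro T γ y z
    simp only [f, P, comp_lift_assoc, lift_fst_assoc, lift_snd_assoc, comp_lift, lift_fst, lift_snd, Category.assoc]
  have : IsLocallyNoetherian (Spec (CommRingCat.of K)) := inferInstance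
  have hsl : Rig93.slice Γs (lift e e) ≫ f = toUnit Γs ≫ e := by
    rw [Rig93.slice, comp_lift (toUnit Γs) e e, hopp]
    simp only [Category.id_comp, hopr]
    rw [← hΓm, ← comp_lift_assoc, lift_fst_snd, Category.id_comp]
  have : LocallyOfFinitePresentation Γs.hom := inferInstance
  have : LocallyOfFinitePresentation X.hom := inferInstance
  have : ConnectedSpace ↥P.left := inferInstance
  have h0 : ∀ t : ↥(Spec (CommRingCat.of K)), Function.Bijective
      (pullback.snd Γs.hom ((Spec (CommRingCat.of K)).fromSpecResidueField t)).appTop := by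
    intro t
    let F := (Spec (CommRingCat.of K)).fromSpecResidueField t
    have : IsClosedImmersion F := isClosed_singleton_iff_isClosedImmersion.mp (isClosed_discrete _)
    have : Surjective F := ⟨Function.surjective_to_subsingleton (β := PrimeSpectrum K) _⟩
    have : IsIso F := isIso_of_isClosedImmersion_of_surjective F
    show Function.Bijective (pullback.snd Γs.hom F).appTop
    rw [show (pullback.snd Γs.hom F).appTop = inv F.appTop ≫ Γs.hom.appTop ≫ (pullback.fst Γs.hom F).appTop by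
      rw [IsIso.eq_inv_comp, ← Scheme.Hom.comp_appTop, ← Scheme.Hom.comp_appTop, pullback.condition]]
    simp only [CommRingCat.hom_comp, RingHom.coe_comp]
    exact ((ConcreteCategory.bijective_of_isIso (pullback.fst Γs.hom F).appTop).comp
      (Rig93.bijective_appTop_of_isAlgClosed Γs.hom)).comp (ConcreteCategory.bijective_of_isIso (inv F.appTop))
  obtain ⟨h, hh⟩ := factor_of_slice Γs P X h0 (lift e e)
    (fun U hU hr => (isClopen_iff.1 hU).resolve_left fun h => by simpa [h] using hr ⟨pt, rfl⟩) f e hsl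
  have hconst : ∀ (γ γ' : 𝟙_ (Over (Spec (CommRingCat.of K))) ⟶ Γs) (y z : X ⟶ X),
      lift (toUnit X ≫ γ) (lift y z) ≫ f = lift (toUnit X ≫ γ') (lift y z) ≫ f := by
    intro γ γ' y z
    rw [hh, lift_snd_assoc, lift_snd_assoc]
  -- the point of the closure over the unit
  have hsub : ∀ x : 𝟙_ (Over (Spec (CommRingCat.of K))) ⟶ X, ∃ γ : 𝟙_ (Over (Spec (CommRingCat.of K))) ⟶ Γs,
      γ ≫ ιΓ ≫ fst X X = x := by
    intro x
    let π : Γs.left ⟶ X.left := s.left.imageι ≫ (fst X X).left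
    have hrange : Set.range π = Set.univ := by
      refine Set.eq_univ_of_univ_subset ?_
      rw [← (N.2.dense ⟨_, heN⟩).closure_eq]
      refine closure_minimal (fun n hn => ⟨s.left.toImage ⟨n, hn⟩, ?_⟩) π.isClosedMap.isClosed_range
      show (s.left.toImage ≫ π) ⟨n, hn⟩ = n
      rw [show s.left.toImage ≫ π = N.ι by rw [Scheme.Hom.toImage_imageι_assoc]; exact hs0g]
      rfl
    have hne : (π ⁻¹' {x.left pt}).Nonempty := by
      obtain ⟨z, hz⟩ := hrange.ge (Set.mem_univ (x.left pt))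
      exact ⟨z, hz⟩
    have hxc : IsClosed ({x.left pt} : Set X.left) := by
      have : IsClosedImmersion x.left := isClosedImmersion_of_comp_eq_id (Y := Spec (CommRingCat.of K)) X.hom x.left (Over.w x)
      have := x.left.isClosedEmbedding.isClosedMap _ (isClosed_singleton (x := pt))
      rwa [Set.image_singleton] at this
    have : JacobsonSpace ↥Γs.left := LocallyOfFiniteType.jacobsonSpace Γs.hom
    obtain ⟨z, hz, hzc⟩ := nonempty_inter_closedPoints hne (hxc.preimage π.continuous).isLocallyClosed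
    refine ⟨Over.homMk (pointOfClosedPoint Γs.hom z hzc) (pointOfClosedPoint_comp _ _ _), ?_⟩
    ext : 1
    refine ext_of_apply_closedPoint_eq X.hom ?_ (Over.w x) ?_
    · exact Over.w (Over.homMk (pointOfClosedPoint Γs.hom z hzc) (pointOfClosedPoint_comp _ _ _) ≫ ιΓ ≫ fst X X :
        𝟙_ (Over (Spec (CommRingCat.of K))) ⟶ X)
    · show π (pointOfClosedPoint Γs.hom z hzc pt) = x.left pt
      rw [pointOfClosedPoint_apply]
      exact hz
  -- the unit pair
  let eN : 𝟙_ (Over (Spec (CommRingCat.of K))) ⟶ Nv := Over.homMk (IsOpenImmersion.lift N.ι e.left (by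
    rintro _ ⟨a, rfl⟩
    refine ⟨⟨e.left pt, heN⟩, ?_⟩
    exact congrArg e.left (Subsingleton.elim (α := PrimeSpectrum K) pt a))) (by
    show _ ≫ N.ι ≫ X.hom = _
    rw [IsOpenImmersion.lift_fac_assoc]; exact Over.w e)
  let γ0 := eN ≫ toI
  have hγfst : γ0 ≫ ιΓ ≫ fst X X = e := by
    ext : 1
    show (IsOpenImmersion.lift N.ι e.left _ ≫ s.left.toImage) ≫ s.left.imageι ≫ (fst X X).left = e.left
    rw [Category.assoc, Scheme.Hom.toImage_imageι_assoc, show s.left ≫ (fst X X).left = N.ι from hs0g,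
      IsOpenImmersion.lift_fac]
  have hγsnd : γ0 ≫ ιΓ ≫ snd X X = e := by
    have h1 := γ0 ≫= hΓm
    rw [← Category.assoc γ0 (toUnit Γs), show γ0 ≫ toUnit Γs = 𝟙 _ from toUnit_unique _ _, Category.id_comp] at h1
    have h2 : γ0 ≫ ιΓ = lift (γ0 ≫ ιΓ ≫ fst X X) (γ0 ≫ ιΓ ≫ snd X X) := by
      rw [← comp_lift, ← comp_lift, lift_fst_snd, Category.comp_id]
    rw [reassoc_of% h2, hγfst] at h1
    have h3 := hopl (γ0 ≫ ιΓ ≫ snd X X)
    rw [show toUnit (𝟙_ (Over (Spec (CommRingCat.of K)))) = 𝟙 _ from toUnit_unique _ _, Category.id_comp] at h3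
    rw [← h3]; exact h1
  -- conclude
  let L : (𝟙_ (Over (Spec (CommRingCat.of K))) ⟶ X) → (X ⟶ X) := fun w => lift (toUnit X ≫ w) (𝟙 X) ≫ m
  have hLL : ∀ γ : 𝟙_ (Over (Spec (CommRingCat.of K))) ⟶ Γs,
      L (γ ≫ ιΓ ≫ snd X X) ≫ L (γ ≫ ιΓ ≫ fst X X) = 𝟙 X := by
    intro γ
    have hh' := hconst γ γ0 (𝟙 X) (toUnit X ≫ e)
    simp only [hopp, hopr, Category.assoc, hγfst, hγsnd, hopl] at hh'
    simp only [L, comp_lift_assoc, Category.comp_id, Category.assoc]
    rw [← reassoc_of% comp_toUnit (lift (toUnit X ≫ γ ≫ ιΓ ≫ snd X X) (𝟙 X) ≫ m)] at hh'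
    simpa using hh'
  obtain ⟨γ, hγ⟩ := hsub x
  have hc : IsClosedImmersion (L (γ ≫ ιΓ ≫ snd X X)).left := by
    have h1 : IsClosedImmersion ((L (γ ≫ ιΓ ≫ snd X X)).left ≫ (L (γ ≫ ιΓ ≫ fst X X)).left) := by
      rw [← Over.comp_left, hLL]; exact inferInstanceAs (IsClosedImmersion (𝟙 X.left))
    have : IsSeparated ((L (γ ≫ ιΓ ≫ fst X X)).left) := by
      have : IsSeparated ((L (γ ≫ ιΓ ≫ fst X X)).left ≫ X.hom) := by rw [Over.w]; infer_instance
      exact IsSeparated.of_comp _ X.hom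
    exact IsClosedImmersion.of_comp _ (g := (L (γ ≫ ιΓ ≫ fst X X)).left)
  have := isIso_closedImmersion_endo (L (γ ≫ ιΓ ≫ snd X X)).left
  have h5 : (L (γ ≫ ιΓ ≫ snd X X)).left ≫ (L (γ ≫ ιΓ ≫ fst X X)).left = 𝟙 X.left := by
    rw [← Over.comp_left, hLL]; rfl
  show IsIso (L x).left
  rw [← hγ, show (L (γ ≫ ιΓ ≫ fst X X)).left = inv (L (γ ≫ ιΓ ≫ snd X X)).left from
    (IsIso.eq_inv_of_hom_inv_id h5)]
  infer_instance

end Groth.Agent.AbSch7
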