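import Groth.Agent.AbSch7.FieldH0
import Groth.Agent.AbSch7.LocalH0

/-!
For a proper flat morphism with geometrically connected and geometrically reduced fibres over a
locally Noetherian base, the direct image of the structure sheaf is the structure sheaf.
-/

set_option autoImplicit false
universe u

open CategoryTheory CategoryTheory.Limits AlgebraicGeometry TopologicalSpace

namespace Groth.Agent.AbSch7

/-- Every fibre, after any field extension, has only constant functions. -/
def H0Fib {X T : Scheme.{u}} (f : X ⟶ T) : Prop :=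
  ∀ (K : Type u) [Field K] (y : Spec (CommRingCat.of K) ⟶ T),
    Function.Bijective (pullback.snd f y).appTop.hom

theorem H0Fib.of_geometrically {X T : Scheme.{u}} (f : X ⟶ T) [IsProper f] [GeometricallyConnected f]
    [GeometricallyReduced f] : H0Fib f :=
  fun _ _ y => appTop_bijective_of_field (pullback.snd f y)

theorem H0Fib.of_isPullback {X T X' T' : Scheme.{u}} {f : X ⟶ T} {g : T' ⟶ T} {g' : X' ⟶ X}
    {f' : X' ⟶ T'} (H : IsPullback g' f' f g) (hf : H0Fib f) : H0Fib f' := by
  intro K _ y
  have H2 : IsPullback (pullback.fst f' y ≫ g') (pullback.snd f' y) f (y ≫ g) :=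
    (IsPullback.of_hasPullback f' y).paste_horiz H
  have h := hf K (y ≫ g)
  rw [← H2.isoPullback_hom_snd, Scheme.Hom.comp_appTop]
  have : IsIso H2.isoPullback.hom.appTop :=
    inferInstanceAs (IsIso (Scheme.Γ.map H2.isoPullback.hom.op))
  exact (ConcreteCategory.bijective_of_isIso H2.isoPullback.hom.appTop).comp h

theorem H0Fib.comp_iso {X T T' : Scheme.{u}} {f : X ⟶ T} (e : T ≅ T') (hf : H0Fib f) :
    H0Fib (f ≫ e.hom) :=
  hf.of_isPullback (g' := 𝟙 X) (g := e.inv) (IsPullback.of_horiz_isIso ⟨by simp⟩)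

theorem surjective_of_h0Fib {X T : Scheme.{u}} {f : X ⟶ T} (hf : H0Fib f) : Surjective f := by
  refine ⟨fun t => ?_⟩
  have h := hf (T.residueField t) (T.fromSpecResidueField t)
  by_contra hno
  have : IsEmpty ↥(pullback f (T.fromSpecResidueField t)) := ⟨fun z => hno ⟨pullback.fst f _ z, by
    rw [← Scheme.Hom.comp_apply, pullback.condition, Scheme.Hom.comp_apply]
    exact (T.range_fromSpecResidueField t).le ⟨_, rfl⟩⟩⟩
  have : Subsingleton Γ(pullback f (T.fromSpecResidueField t), ⊤) := inferInstance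
  have := h.1.subsingleton
  exact false_of_nontrivial_of_subsingleton Γ(Spec (T.residueField t), ⊤)

theorem H0Fib.of_residueField {X T : Scheme.{u}} (f : X ⟶ T) [QuasiCompact f] [QuasiSeparated f]
    (hf : ∀ t : T, Function.Bijective (f.fiberToSpecResidueField t).appTop.hom) : H0Fib f := by
  intro K _ y
  obtain ⟨⟨t, φ⟩, rfl⟩ : ∃ p : Σ t : T, T.residueField t ⟶ CommRingCat.of K,
      Spec.map p.2 ≫ T.fromSpecResidueField p.1 = y := by
    obtain ⟨p, rfl⟩ := (Scheme.SpecToEquivOfField K T).symm.surjective y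
    exact ⟨p, rfl⟩
  let F := f.fiber t
  have H0 : IsPullback (f.fiberι t) (f.fiberToSpecResidueField t) f (T.fromSpecResidueField t) :=
    IsPullback.of_hasPullback _ _
  set g := Spec.map φ with hg
  have H1 := IsPullback.of_hasPullback (f.fiberToSpecResidueField t) g
  have H2 := H1.paste_horiz H0
  have : Flat g := by
    let := φ.hom.toAlgebra
    exact (HasRingHomProperty.Spec_iff (P := @Flat)).2 (RingHom.flat_algebraMap_iff.2 inferInstance :
      (algebraMap (T.residueField t) K).Flat)
  have : QuasiCompact (f.fiberToSpecResidueField t) :=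
    inferInstanceAs (QuasiCompact (pullback.snd f (T.fromSpecResidueField t)))
  have : QuasiSeparated (f.fiberToSpecResidueField t) :=
    inferInstanceAs (QuasiSeparated (pullback.snd f (T.fromSpecResidueField t)))
  have : CompactSpace F := QuasiCompact.compactSpace_of_compactSpace (f.fiberToSpecResidueField t)
  have : QuasiSeparatedSpace F := quasiSeparatedSpace_of_quasiSeparated (f.fiberToSpecResidueField t)
  have hiso := isIso_pushoutSection_of_isQuasiSeparated_of_flat_right (US := ⊤) (UT := ⊤) (UX := ⊤)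
    (UY := ⊤) H1 (by simp) (by simp) (by simp) (isAffineOpen_top _) (isAffineOpen_top _)
    (by simpa using isCompact_univ) (by simpa using isQuasiSeparated_univ)
  have hp' := (isIso_pushoutSection_iff ..).1 hiso
  rw [← H2.isoPullback_inv_snd, Scheme.Hom.comp_appTop]
  have : IsIso H2.isoPullback.inv.appTop :=
    inferInstanceAs (IsIso (Scheme.Γ.map H2.isoPullback.inv.op))
  refine (ConcreteCategory.bijective_of_isIso H2.isoPullback.inv.appTop).comp ?_
  have hp : IsPushout (f.fiberToSpecResidueField t).appTop g.appTop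
      (pullback.fst (f.fiberToSpecResidueField t) g).appTop
      (pullback.snd (f.fiberToSpecResidueField t) g).appTop := by
    rw [← appLE_top (f.fiberToSpecResidueField t) (by simp), ← appLE_top g (by simp),
      ← appLE_top (pullback.fst (f.fiberToSpecResidueField t) g) (by simp),
      ← appLE_top (pullback.snd (f.fiberToSpecResidueField t) g) (by simp)]
    exact hp'
  have : IsIso (f.fiberToSpecResidueField t).appTop :=
    (ConcreteCategory.isIso_iff_bijective _).2 (hf t)
  have := hp.isIso_inr_of_isIso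
  exact ConcreteCategory.bijective_of_isIso _

/-- The local case for `Spec` of a Noetherian local ring. -/
theorem eq_zero_of_section_spec_local {L : Type u} [CommRing L] [IsLocalRing L] [IsNoetherianRing L]
    {X : Scheme.{u}} (f : X ⟶ Spec (CommRingCat.of L)) [IsProper f] [Flat f]
    (hf0 : H0Fib f) (e : Spec (CommRingCat.of L) ⟶ X)
    (he : e ≫ f = 𝟙 _) (s : Γ(X, ⊤)) (hs : e.appTop.hom s = 0) : s = 0 := by
  let φ : CommRingCat.of L ⟶ CommRingCat.of (IsLocalRing.ResidueField L) :=
    CommRingCat.ofHom (IsLocalRing.residue L)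
  let eA := (Scheme.ΓSpecIso (CommRingCat.of L)).commRingCatIsoToRingEquiv
  have : IsLocalRing Γ(Spec (CommRingCat.of L), ⊤) := eA.symm.isLocalRing
  have : IsNoetherianRing Γ(Spec (CommRingCat.of L), ⊤) := isNoetherianRing_of_ringEquiv L eA.symm
  have hq : Function.Surjective (Spec.map φ).appTop.hom := fun c => by
    obtain ⟨a, ha⟩ := IsLocalRing.residue_surjective ((Scheme.ΓSpecIso _).hom.hom c)
    refine ⟨(Scheme.ΓSpecIso (CommRingCat.of L)).inv.hom a, ?_⟩
    apply (Scheme.ΓSpecIso (CommRingCat.of (IsLocalRing.ResidueField L))).commRingCatIsoToRingEquiv.injective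
    show (Scheme.ΓSpecIso _).hom.hom _ = (Scheme.ΓSpecIso _).hom.hom c
    rw [← CommRingCat.comp_apply, ← CommRingCat.comp_apply, ← Category.assoc,
      Category.assoc, Scheme.ΓSpecIso_naturality φ, Iso.inv_hom_id_assoc]
    exact ha
  have hF := hf0 (IsLocalRing.ResidueField L) (Spec.map φ)
  refine eq_zero_of_section_local (t0 := IsLocalRing.closedPoint L) (ι0 := Spec.map φ) ?_ ?_ hq ?_ f
    (IsPullback.of_hasPullback f _) hF.2 e he s hs
  · ext x
    constructor
    · rintro ⟨z, rfl⟩
      have : z.asIdeal.IsPrime := PrimeSpectrum.isPrime z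
      refine PrimeSpectrum.ext ?_
      show Ideal.comap (IsLocalRing.residue L) z.asIdeal = IsLocalRing.maximalIdeal L
      rw [Ideal.eq_bot_of_prime (K := IsLocalRing.ResidueField L) z.asIdeal, ← RingHom.ker_eq_comap_bot,
        IsLocalRing.ker_residue]
    · rintro rfl
      refine ⟨IsLocalRing.closedPoint (IsLocalRing.ResidueField L), PrimeSpectrum.ext ?_⟩
      show Ideal.comap (IsLocalRing.residue L) (IsLocalRing.maximalIdeal _) = _
      rw [Ideal.eq_bot_of_prime (K := IsLocalRing.ResidueField L) (IsLocalRing.maximalIdeal _),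
        ← RingHom.ker_eq_comap_bot, IsLocalRing.ker_residue]
      rfl
  · intro x; exact IsLocalRing.specializes_closedPoint x
  · have hfield : IsField Γ(Spec (CommRingCat.of (IsLocalRing.ResidueField L)), ⊤) :=
      (Scheme.ΓSpecIso _).commRingCatIsoToRingEquiv.toMulEquiv.isField (Field.toIsField _)
    let := hfield.toField
    exact IsLocalRing.eq_maximalIdeal (RingHom.ker_isMaximal_of_surjective _ hq)

theorem appTop_pullback_localization {A : Type u} [CommRing A] (M : Submonoid A)
    {X : Scheme.{u}} [CompactSpace X] [QuasiSeparatedSpace X] (f : X ⟶ Spec (CommRingCat.of A))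
    (s : Γ(X, ⊤))
    (h : (pullback.fst f (Spec.map (CommRingCat.ofHom (algebraMap A (Localization M))))).appTop.hom s = 0) :
    ∃ w ∈ M, ((Scheme.ΓSpecIso (CommRingCat.of A)).inv ≫ f.appTop).hom w * s = 0 := by
  set g := Spec.map (CommRingCat.ofHom (algebraMap A (Localization M))) with hg
  have : Flat g := (HasRingHomProperty.Spec_iff (P := @Flat)).2
    (RingHom.flat_algebraMap_iff.2 inferInstance)
  have H := IsPullback.of_hasPullback f g
  have hiso := isIso_pushoutSection_of_isQuasiSeparated_of_flat_right (US := ⊤) (UT := ⊤) (UX := ⊤)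
    (UY := ⊤) H (by simp) (by simp) (by simp) (isAffineOpen_top _) (isAffineOpen_top _)
    (by simpa using isCompact_univ) (by simpa using isQuasiSeparated_univ)
  have hp' := (isIso_pushoutSection_iff ..).1 hiso
  have hp : IsPushout f.appTop g.appTop (pullback.fst f g).appTop (pullback.snd f g).appTop := by
    rw [← appLE_top f (by simp), ← appLE_top g (by simp), ← appLE_top (pullback.fst f g) (by simp),
      ← appLE_top (pullback.snd f g) (by simp)]
    exact hp'
  let φ : CommRingCat.of A ⟶ Γ(X, ⊤) := (Scheme.ΓSpecIso (CommRingCat.of A)).inv ≫ f.appTop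
  let ψ : CommRingCat.of (Localization M) ⟶ Γ(pullback f g, ⊤) :=
    (Scheme.ΓSpecIso (CommRingCat.of (Localization M))).inv ≫ (pullback.snd f g).appTop
  have H2 : IsPushout φ (CommRingCat.ofHom (algebraMap A (Localization M)))
      (pullback.fst f g).appTop ψ := by
    refine hp.of_iso (Scheme.ΓSpecIso (CommRingCat.of A)) (Iso.refl _)
      (Scheme.ΓSpecIso (CommRingCat.of (Localization M))) (Iso.refl _) ?_ ?_ ?_ ?_
    · simp [φ]
    · exact (Scheme.ΓSpecIso_naturality _)
    · simp
    · simp [ψ]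
  algebraize [φ.hom, ψ.hom, (pullback.fst f g).appTop.hom, (pullback.fst f g).appTop.hom.comp φ.hom]
  have : IsScalarTower A (Localization M) Γ(pullback f g, ⊤) :=
    IsScalarTower.of_algebraMap_eq' (congrArg CommRingCat.Hom.hom H2.w)
  have hpush : Algebra.IsPushout A Γ(X, ⊤) (Localization M) Γ(pullback f g, ⊤) :=
    CommRingCat.isPushout_iff_isPushout.1 H2
  have hloc := (Algebra.isLocalization_iff_isPushout M (Localization M)
    (T := Γ(X, ⊤)) (B := Γ(pullback f g, ⊤))).2 hpush
  obtain ⟨⟨w, a, ha, rfl⟩, hw⟩ := (IsLocalization.map_eq_zero_iff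
    (Algebra.algebraMapSubmonoid Γ(X, ⊤) M) Γ(pullback f g, ⊤) s).1 h
  exact ⟨a, ha, hw⟩

/-- Functions vanishing along a section vanish, over an affine Noetherian base. -/
theorem eq_zero_of_section_spec {A : Type u} [CommRing A] [IsNoetherianRing A]
    {X : Scheme.{u}} (f : X ⟶ Spec (CommRingCat.of A)) [IsProper f] [Flat f]
    (hf0 : H0Fib f) (e : Spec (CommRingCat.of A) ⟶ X)
    (he : e ≫ f = 𝟙 _) (s : Γ(X, ⊤)) (hs : e.appTop.hom s = 0) : s = 0 := by
  have : CompactSpace X := QuasiCompact.compactSpace_of_compactSpace f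
  have : QuasiSeparatedSpace X := quasiSeparatedSpace_of_quasiSeparated f
  set φ := ((Scheme.ΓSpecIso (CommRingCat.of A)).inv ≫ f.appTop).hom with hφ
  let I : Ideal A :=
    { carrier := {a | φ a * s = 0}
      add_mem' := fun {a b} ha hb => by
        show φ (a + b) * s = 0
        rw [map_add, add_mul, show φ a * s = 0 from ha, show φ b * s = 0 from hb, add_zero]
      zero_mem' := by show φ 0 * s = 0; rw [map_zero, zero_mul]
      smul_mem' := fun a b hb => by
        show φ (a * b) * s = 0
        rw [map_mul, mul_assoc, show φ b * s = 0 from hb, mul_zero] }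
  suffices hI : I = ⊤ by
    have h1 : φ 1 * s = 0 := (Ideal.eq_top_iff_one I).1 hI
    simpa using h1
  by_contra hI
  obtain ⟨P, hP, hIP⟩ := Ideal.exists_le_maximal I hI
  have := hP.isPrime
  let g := Spec.map (CommRingCat.ofHom (algebraMap A (Localization P.primeCompl)))
  let e' : Spec (CommRingCat.of (Localization P.primeCompl)) ⟶ pullback f g :=
    pullback.lift (g ≫ e) (𝟙 _) (by rw [Category.assoc, he, Category.comp_id, Category.id_comp])
  have : IsLocalRing (Localization P.primeCompl) := inferInstanceAs (IsLocalRing (Localization.AtPrime P))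
  have : IsNoetherianRing (Localization P.primeCompl) :=
    IsLocalization.isNoetherianRing P.primeCompl _ inferInstance
  have h0 : (pullback.fst f g).appTop.hom s = 0 := by
    refine eq_zero_of_section_spec_local (pullback.snd f g) (hf0.of_isPullback (IsPullback.of_hasPullback f g)) e' (pullback.lift_snd _ _ _) _ ?_
    rw [← CommRingCat.comp_apply, ← Scheme.Hom.comp_appTop, pullback.lift_fst,
      Scheme.Hom.comp_appTop, CommRingCat.comp_apply, hs, map_zero]
  obtain ⟨w, hw, hws⟩ := appTop_pullback_localization P.primeCompl f s h0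
  exact hw (hIP hws)

theorem hom_eq_of_section_affine {X T Y : Scheme.{u}} [IsAffine T] [IsNoetherianRing Γ(T, ⊤)]
    [IsAffine Y] (f : X ⟶ T) [IsProper f] [Flat f] (hf0 : H0Fib f) (e : T ⟶ X) (he : e ≫ f = 𝟙 T) (h : X ⟶ Y) : h = f ≫ e ≫ h := by
  refine ext_of_isAffine ?_
  ext a
  rw [← sub_eq_zero]
  refine eq_zero_of_section_spec (f ≫ T.isoSpec.hom) (hf0.comp_iso _) (T.isoSpec.inv ≫ e) (by
    rw [Category.assoc, reassoc_of% he, Iso.inv_hom_id]) _ ?_
  rw [map_sub, ← CommRingCat.comp_apply, ← CommRingCat.comp_apply, ← Scheme.Hom.comp_appTop,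
    ← Scheme.Hom.comp_appTop, Category.assoc, Category.assoc, reassoc_of% he, sub_self]

/-- With a section, every morphism to an affine scheme is constant on the fibres. -/
theorem hom_eq_of_section {X T Y : Scheme.{u}} [IsLocallyNoetherian T] [IsAffine Y] (f : X ⟶ T)
    [IsProper f] [Flat f] (hf0 : H0Fib f) (e : T ⟶ X)
    (he : e ≫ f = 𝟙 T) (h : X ⟶ Y) : h = f ≫ e ≫ h := by
  refine Scheme.Cover.hom_ext (X.openCoverOfIsOpenCover (fun U : T.affineOpens => f ⁻¹ᵁ (U : T.Opens))
    (TopologicalSpace.IsOpenCover.mk (top_le_iff.1 fun x _ => by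
      obtain ⟨_, ⟨U, hU, rfl⟩, hx, -⟩ := T.isBasis_affineOpens.exists_subset_of_mem_open
        (Set.mem_univ (f x)) isOpen_univ
      exact Opens.mem_iSup.2 ⟨⟨U, hU⟩, hx⟩))) _ _ fun (U : T.affineOpens) => ?_
  show (f ⁻¹ᵁ (U : T.Opens)).ι ≫ h = (f ⁻¹ᵁ (U : T.Opens)).ι ≫ f ≫ e ≫ h
  have : IsAffine (U : T.Opens) := U.2
  have : IsNoetherianRing Γ(T, U) := IsLocallyNoetherian.component_noetherian U
  have : IsNoetherianRing Γ((U : T.Opens).toScheme, ⊤) :=
    isNoetherianRing_of_ringEquiv Γ(T, U) (U : T.Opens).topIso.commRingCatIsoToRingEquiv.symm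
  let eU : (U : T.Opens).toScheme ⟶ (f ⁻¹ᵁ (U : T.Opens)).toScheme :=
    IsOpenImmersion.lift (f ⁻¹ᵁ (U : T.Opens)).ι ((U : T.Opens).ι ≫ e) (by
      rw [Scheme.Opens.range_ι]
      rintro _ ⟨y, rfl⟩
      show f (e ((U : T.Opens).ι y)) ∈ (U : T.Opens)
      rw [← Scheme.Hom.comp_apply e f, he]
      exact y.2)
  have heU : eU ≫ (f ⁻¹ᵁ (U : T.Opens)).ι = (U : T.Opens).ι ≫ e := IsOpenImmersion.lift_fac _ _ _
  have heU' : eU ≫ f ∣_ (U : T.Opens) = 𝟙 _ := by
    rw [← cancel_mono (U : T.Opens).ι, Category.assoc, morphismRestrict_ι, ← Category.assoc, heU,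
      Category.assoc, he, Category.comp_id, Category.id_comp]
  have key : (f ⁻¹ᵁ (U : T.Opens)).ι ≫ h = (f ∣_ (U : T.Opens)) ≫ eU ≫ (f ⁻¹ᵁ (U : T.Opens)).ι ≫ h :=
    hom_eq_of_section_affine (f ∣_ (U : T.Opens))
      (hf0.of_isPullback (isPullback_morphismRestrict f (U : T.Opens)).flip) eU heU' _
  rw [key, reassoc_of% heU, morphismRestrict_ι_assoc]

/-- Every morphism to an affine scheme factors through the base. -/
theorem exists_factor {X T Y : Scheme.{u}} [IsLocallyNoetherian T] [IsAffine Y] (f : X ⟶ T)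
    [IsProper f] [Flat f] (hf0 : H0Fib f)
    (h : X ⟶ Y) : ∃ k : T ⟶ Y, f ≫ k = h := by
  have : IsLocallyNoetherian X := LocallyOfFiniteType.isLocallyNoetherian f
  have hΔ : pullback.lift (𝟙 X) (𝟙 X) rfl ≫ pullback.snd f f = 𝟙 X := pullback.lift_snd _ _ _
  have := surjective_of_h0Fib hf0
  have h1 := hom_eq_of_section (pullback.snd f f) (hf0.of_isPullback (IsPullback.of_hasPullback f f)) _ hΔ (pullback.fst f f ≫ h)
  rw [pullback.lift_fst_assoc, Category.id_comp] at h1
  refine ⟨(EffectiveEpi.desc f h fun {W} g1 g2 hg => ?_), EffectiveEpi.fac f h _⟩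
  have h2 := pullback.lift g1 g2 hg ≫= h1
  rw [pullback.lift_fst_assoc, pullback.lift_snd_assoc] at h2
  exact h2

/-- The direct image of the structure sheaf is the structure sheaf. -/
theorem appTop_bijective {X T : Scheme.{u}} [IsLocallyNoetherian T] (f : X ⟶ T)
    [IsProper f] [Flat f] (hf0 : H0Fib f) :
    Function.Bijective f.appTop.hom := by
  let Y : Scheme.{u} := Spec (CommRingCat.of (Polynomial (ULift.{u} ℤ)))
  let mkHom : ∀ {Z : Scheme.{u}}, Γ(Z, ⊤) → (Z ⟶ Y) := fun {Z} a =>
    Z.toSpecΓ ≫ Spec.map (CommRingCat.ofHom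
      (Polynomial.eval₂RingHom ((Int.castRingHom Γ(Z, ⊤)).comp ULift.ringEquiv.toRingHom) a))
  have hval : ∀ {Z : Scheme.{u}} (a : Γ(Z, ⊤)),
      (mkHom a).appTop.hom ((Scheme.ΓSpecIso _).inv.hom Polynomial.X) = a := fun {Z} a => by
    rw [← CommRingCat.comp_apply]
    simp only [mkHom, Scheme.Hom.comp_appTop]
    rw [← Category.assoc, ← Scheme.ΓSpecIso_inv_naturality, Category.assoc]
    simp [Scheme.toSpecΓ_appTop]
  have := surjective_of_h0Fib hf0
  refine ⟨fun a b hab => ?_, fun s => ?_⟩
  · rw [← sub_eq_zero]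
    have h0 : f.appTop.hom (a - b) = f.appTop.hom 0 := by rw [map_sub, hab, sub_self, map_zero]
    generalize a - b = c at h0 ⊢
    have e : ∀ c : Γ(T, ⊤), f ≫ mkHom c = mkHom (f.appTop.hom c) := fun c => by
      simp only [mkHom]
      rw [← Category.assoc, Scheme.toSpecΓ_naturality, Category.assoc, ← Spec.map_comp]
      congr 2
      ext1
      refine Polynomial.ringHom_ext (fun z => ?_) ?_
      · simp
      · simp
    have h1 : mkHom c = mkHom (0 : Γ(T, ⊤)) := (cancel_epi f).1 (by rw [e, e, h0])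
    rw [← hval c, h1, hval]
  · obtain ⟨k, hk⟩ := exists_factor f hf0 (mkHom s)
    refine ⟨k.appTop.hom ((Scheme.ΓSpecIso _).inv.hom Polynomial.X), ?_⟩
    rw [← CommRingCat.comp_apply, ← Scheme.Hom.comp_appTop, hk, hval]

/-- The direct image of the structure sheaf is the structure sheaf, on every open. -/
theorem app_bijective {X T : Scheme.{u}} [IsLocallyNoetherian T] (f : X ⟶ T)
    [IsProper f] [Flat f] (hf0 : H0Fib f) (U : T.Opens) :
    Function.Bijective (f.app U).hom := by
  have h := appTop_bijective (f ∣_ U) (hf0.of_isPullback (isPullback_morphismRestrict f U).flip)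
  rw [Scheme.Hom.appTop, morphismRestrict_app] at h
  have h2 : Function.Bijective (f.app (U.ι ''ᵁ ⊤)).hom := by
    exact (Function.Bijective.of_comp_iff'
      (ConcreteCategory.bijective_of_isIso (X.presheaf.map (eqToHom _).op)) _).1 h
  have e : U.ι ''ᵁ ⊤ = U := U.ι_image_top
  rwa [e] at h2

end Groth.Agent.AbSch7
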