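import Groth.Agent.QCPull72.Unit
import Groth.Agent.Props58.LocFree.Criteria
import Groth.Agent.ValVan29.PushTwist

/-!
The unit `M ⟶ f_*f^*M` is an isomorphism for finite locally free `M` when `f_*O = O`.
-/

set_option autoImplicit false
set_option backward.isDefEq.respectTransparency.types false

noncomputable section

universe u

open CategoryTheory Limits AlgebraicGeometry TopologicalSpace Opposite TensorProduct
open Groth.Agent.QC70 Groth.Agent.Props58.LocFree

namespace Groth.Agent.AbSch7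

variable {X Y : Scheme.{u}} (f : X ⟶ Y) (M : Y.Modules)

theorem pullUnit_smul {U : Y.Opens} (a : Γ(Y, U)) (x : Γ(M, U)) :
    (QCPull72.pullUnit f M).app U (a • x) =
      ((f.app U).hom a • (show Γ((Scheme.Modules.pullback f).obj M, f ⁻¹ᵁ U) from (QCPull72.pullUnit f M).app U x) :
        Γ((Scheme.Modules.pullback f).obj M, f ⁻¹ᵁ U)) :=
  Scheme.Modules.Hom.app_smul _ _ _

theorem res_smul_sum {L : X.Modules} {U V : X.Opens} (h : V ≤ U) {ι : Type*} [Fintype ι] (a : ι → Γ(X, U)) (s : ι → Γ(L, U)) :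
    QC70.res L h (∑ i, a i • s i) = ∑ i, resO X h (a i) • QC70.res L h (s i) := by
  rw [res_sum]
  exact Finset.sum_congr rfl fun i _ => res_smul _ _ _

theorem pullUnit_sum {U : Y.Opens} {ι : Type*} [Fintype ι] (a : ι → Γ(Y, U)) (x : ι → Γ(M, U)) :
    (show Γ((Scheme.Modules.pullback f).obj M, f ⁻¹ᵁ U) from (QCPull72.pullUnit f M).app U (∑ i, a i • x i)) =
      ∑ i, (f.app U).hom (a i) • (show Γ((Scheme.Modules.pullback f).obj M, f ⁻¹ᵁ U) from (QCPull72.pullUnit f M).app U (x i)) := by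
  rw [map_sum]
  exact Finset.sum_congr rfl fun i _ => pullUnit_smul f M _ _

/-- On an affine open over an affine open with a basis, the inverse images of the basis form a basis. -/
theorem bijective_comb [M.IsQuasicoherent] {V : Y.Opens} (hV : IsAffineOpen V) {n : ℕ} {t : Fin n → Γ(M, V)}
    (ht : StalkBasis t) {W : X.Opens} (hW : IsAffineOpen W) (e : W ≤ f ⁻¹ᵁ V) :
    Function.Bijective fun a : Fin n → Γ(X, W) => ∑ i, a i • QCPull72.unitSec f M e (t i) := by
  letI := (f.appLE V W e).hom.toAlgebra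
  have hb := ht.bijective (le_refl V)
  let b : Module.Basis (Fin n) Γ(Y, V) Γ(M, V) :=
    Module.Basis.ofEquivFun (LinearEquiv.symm (LinearEquiv.ofBijective
      { toFun := fun a : Fin n → Γ(Y, V) => ∑ i, a i • t i
        map_add' := fun a a' => by simp [add_smul, Finset.sum_add_distrib]
        map_smul' := fun c a => by simp [Finset.smul_sum, smul_smul] }
      (by simpa [QC70.res_self] using hb)))
  have hsurj : Function.Surjective fun a : Fin n → Γ(X, W) => ∑ i, a i • QCPull72.unitSec f M e (t i) := by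
    let D : Submodule Γ(X, W) Γ((Scheme.Modules.pullback f).obj M, W) :=
      LinearMap.range (Fintype.linearCombination Γ(X, W) fun i => QCPull72.unitSec f M e (t i))
    intro z
    have hspan : Submodule.span Γ(X, W) (Set.range (QCPull72.unitSec f M e)) ≤ D := by
      rw [Submodule.span_le]
      rintro _ ⟨x, rfl⟩
      obtain ⟨a, ha⟩ := hb.2 x
      refine ⟨fun i => (f.appLE V W e).hom (a i), ?_⟩
      simp only [QC70.res_self] at ha
      rw [← ha, Fintype.linearCombination_apply]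
      show _ = QC70.res _ e _
      refine Eq.trans ?_ (congrArg (QC70.res _ e) (pullUnit_sum f M a t)).symm
      rw [res_smul_sum]
      rfl
    obtain ⟨a, ha⟩ := hspan (show z ∈ _ by rw [QCPull72.span_unitSec_eq_top f M hV hW e]; trivial)
    exact ⟨a, by rw [← ha, Fintype.linearCombination_apply]⟩
  refine ⟨?_, hsurj⟩
  let E : Γ((Scheme.Modules.pullback f).obj M, W) ≃ₗ[Γ(X, W)] (Fin n → Γ(X, W)) :=
    (QCPull72.sectionsPullbackEquiv f M hV hW e).trans ((Algebra.TensorProduct.basis Γ(X, W) b).equivFun)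
  let φ : (Fin n → Γ(X, W)) →ₗ[Γ(X, W)] (Fin n → Γ(X, W)) :=
    E.toLinearMap ∘ₗ Fintype.linearCombination Γ(X, W) fun i => QCPull72.unitSec f M e (t i)
  have hφ : Function.Surjective φ := fun y => by
    obtain ⟨a, ha⟩ := hsurj (E.symm y)
    exact ⟨a, by
      simp only [φ, LinearMap.comp_apply, Fintype.linearCombination_apply, LinearEquiv.coe_coe]
      rw [show ∑ i, a i • QCPull72.unitSec f M e (t i) = E.symm y from ha, LinearEquiv.apply_symm_apply]⟩
  have hi := OrzechProperty.injective_of_surjective_endomorphism φ hφ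
  intro a a' h
  refine hi ?_
  simp only [φ, LinearMap.comp_apply, Fintype.linearCombination_apply]
  exact congrArg E h

theorem isIso_pullUnit (hM : FlatMod.IsFinLocFree M) (hO : ∀ U : Y.Opens, Function.Bijective (f.app U).hom) :
    IsIso (QCPull72.pullUnit f M) := by
  have := Props58.LocFree.isQuasicoherent_of_isFinLocFree hM
  refine ValVan29.isIso_of_bijective_small _ fun y => ?_
  obtain ⟨U, n, hy, ⟨e⟩⟩ := hM y
  obtain ⟨s₀, hs₀⟩ := Props58.LocFree.exists_stalkBasis_of_iso e
  obtain ⟨V, hV, hyV, hVU⟩ := exists_isAffineOpen_mem_and_subset hy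
  let s := fun i => QC70.res M (show V ≤ U from hVU) (s₀ i)
  have hs : StalkBasis s := hs₀.restrict _
  refine ⟨V, hyV, fun W hWV => ?_⟩
  let C := (Scheme.Modules.pullback f).obj M
  let u : Fin n → Γ(C, f ⁻¹ᵁ W) := fun i => (QCPull72.pullUnit f M).app W (QC70.res M hWV (s i))
  have happ : ∀ a : Fin n → Γ(Y, W),
      (show Γ(C, f ⁻¹ᵁ W) from (QCPull72.pullUnit f M).app W (∑ i, a i • QC70.res M hWV (s i))) =
        ∑ i, (f.app W).hom (a i) • u i := fun a => by
    rw [map_sum]
    exact Finset.sum_congr rfl fun i _ => pullUnit_smul f M _ _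
  have hcov : ∀ x ∈ f ⁻¹ᵁ W, ∃ (Q : X.Opens) (_ : IsAffineOpen Q), x ∈ Q ∧ Q ≤ f ⁻¹ᵁ W := fun x hx => by
    obtain ⟨Q, hQ, hxQ, hQW⟩ := exists_isAffineOpen_mem_and_subset hx
    exact ⟨Q, hQ, hxQ, hQW⟩
  choose Q hQ hxQ hQW using hcov
  have hu : ∀ (x : X) (hx : x ∈ f ⁻¹ᵁ W) i, QC70.res C (hQW x hx) (u i) =
      QCPull72.unitSec f M ((hQW x hx).trans (f.preimage_mono hWV)) (s i) := fun x hx i => by
    show QC70.res C (hQW x hx) ((QCPull72.pullUnit f M).app W (QC70.res M hWV (s i))) = _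
    rw [app_res]
    exact res_res _ _ _
  have hloc : ∀ (x : X) (hx : x ∈ f ⁻¹ᵁ W), Function.Bijective fun a : Fin n → Γ(X, Q x hx) =>
      ∑ i, a i • QC70.res C (hQW x hx) (u i) := fun x hx => by
    simp only [hu]
    exact bijective_comb f M hV hs (hQ x hx) _
  have hbij : Function.Bijective fun a : Fin n → Γ(X, f ⁻¹ᵁ W) => ∑ i, a i • u i := by
    refine ⟨fun a a' h => ?_, fun z => ?_⟩
    · funext i
      refine TopCat.Sheaf.eq_of_locally_eq' X.sheaf (fun x : ↥(f ⁻¹ᵁ W) => Q x.1 x.2) _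
        (fun x => homOfLE (hQW x.1 x.2)) (fun x hx => Opens.mem_iSup.2 ⟨⟨x, hx⟩, hxQ x hx⟩) _ _ fun x => ?_
      have h2 := congrArg (QC70.res C (hQW x.1 x.2)) h
      simp only [res_smul_sum] at h2
      exact congrFun ((hloc x.1 x.2).1 h2) i
    · choose a ha using fun x : ↥(f ⁻¹ᵁ W) => (hloc x.1 x.2).2 (QC70.res C (hQW x.1 x.2) z)
      have hglue : ∀ i, ∃ c : Γ(X, f ⁻¹ᵁ W), ∀ x : ↥(f ⁻¹ᵁ W),
          (X.presheaf.map (homOfLE (hQW x.1 x.2)).op).hom c = a x i := by
        intro i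
        suffices hcompat : TopCat.Presheaf.IsCompatible X.sheaf.obj (fun x : ↥(f ⁻¹ᵁ W) => Q x.1 x.2) (fun x => a x i) by
          obtain ⟨c, hc, -⟩ := X.sheaf.existsUnique_gluing' (fun x : ↥(f ⁻¹ᵁ W) => Q x.1 x.2) (f ⁻¹ᵁ W)
            (fun x => homOfLE (hQW x.1 x.2)) (fun x hx => Opens.mem_iSup.2 ⟨⟨x, hx⟩, hxQ x hx⟩) (fun x => a x i) hcompat
          exact ⟨c, hc⟩
        intro x x'
        let P := Q x.1 x.2 ⊓ Q x'.1 x'.2
        choose R hR hqR hRP using fun q : ↥P => exists_isAffineOpen_mem_and_subset (U := P) q.2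
        refine TopCat.Sheaf.eq_of_locally_eq' X.sheaf R _ (fun q => homOfLE (hRP q))
          (fun q hq => Opens.mem_iSup.2 ⟨⟨q, hq⟩, hqR ⟨q, hq⟩⟩) _ _ fun q => ?_
        have hRW : R q ≤ f ⁻¹ᵁ W := (le_trans (hRP q : R q ≤ P) inf_le_left).trans (hQW x.1 x.2)
        have h1 := congrArg (QC70.res C (show R q ≤ Q x.1 x.2 from le_trans (hRP q : R q ≤ P) inf_le_left)) (ha x)
        have h2 := congrArg (QC70.res C (show R q ≤ Q x'.1 x'.2 from le_trans (hRP q : R q ≤ P) inf_le_right)) (ha x')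
        simp only [res_smul_sum, res_res] at h1 h2
        have hu' : ∀ i, QC70.res C hRW (u i) = QCPull72.unitSec f M (hRW.trans (f.preimage_mono hWV)) (s i) := fun i => by
          show QC70.res C hRW ((QCPull72.pullUnit f M).app W (QC70.res M hWV (s i))) = _
          rw [app_res]
          exact res_res _ _ _
        have h3 := h1.trans h2.symm
        simp only [hu'] at h3
        have h4 := congrFun ((bijective_comb f M hV hs (hR q) _).1 h3) i
        rw [← CommRingCat.comp_apply, ← CommRingCat.comp_apply, ← Functor.map_comp, ← Functor.map_comp]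
        exact h4
      choose c hc using hglue
      refine ⟨c, eq_of_sub_eq_zero (section_ext C _ _ fun x hx => ⟨Q x hx, hQW x hx, hxQ x hx, ?_⟩)⟩
      rw [res_zero, res_sub, res_smul_sum]
      simp only [hc _ ⟨x, hx⟩]
      rw [sub_eq_zero]
      exact ha ⟨x, hx⟩
  have hψ := hs.bijective hWV
  refine (Function.Bijective.of_comp_iff _ hψ).1 ?_
  have hcomp : ((QCPull72.pullUnit f M).app W : Γ(M, W) → _) ∘ (fun a : Fin n → Γ(Y, W) => ∑ i, a i • QC70.res M hWV (s i)) =
      (fun a : Fin n → Γ(X, f ⁻¹ᵁ W) => ∑ i, a i • u i) ∘ (fun a i => (f.app W).hom (a i)) := funext happ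
  rw [hcomp]
  exact hbij.comp ⟨fun a a' h => funext fun i => (hO W).1 (congrFun h i),
    fun a => ⟨fun i => ((hO W).2 (a i)).choose, funext fun i => ((hO W).2 (a i)).choose_spec⟩⟩

end Groth.Agent.AbSch7
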