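import Groth.Agent.AbSch7.PushO
import Groth.Agent.AbSch7.PushPull
import Groth.Agent.Strict99.Basic
import Groth.Agent.Omega57.GroupConormal
import Groth.Agent.Omega57.StalkZero
import Groth.Agent.Var76.OmegaSmooth
import Groth.Agent.FlatMor68.LocFree
import Groth.Agent.Var76.OmegaRegular

/-!
Invariant differentials of proper smooth group schemes with geometrically connected fibres.
-/

set_option autoImplicit false
set_option backward.isDefEq.respectTransparency.types false

noncomputable section

universe u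

open CategoryTheory Limits AlgebraicGeometry MonObj

namespace Groth.Agent.AbSch7

theorem isFinLocFree_omega {X Y : Scheme.{u}} (f : X ⟶ Y) [Smooth f] [QuasiSeparated f] :
    FlatMod.IsFinLocFree (Omega.sheaf f) := by
  have := Omega57.isQuasicoherent_omega f
  refine FlatMor68.LocFree.isFinLocFree_of_projective_sections _ fun x => ?_
  obtain ⟨V, hV, hxV, -⟩ := exists_isAffineOpen_mem_and_subset (U := (⊤ : Y.Opens)) (x := f x) trivial
  obtain ⟨U, hU, hxU, hUV⟩ := exists_isAffineOpen_mem_and_subset (U := f ⁻¹ᵁ V) (x := x) hxV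
  have hUV' : U ≤ f ⁻¹ᵁ V := hUV
  let := (f.appLE V U hUV').hom.toAlgebra
  have : Algebra.Smooth Γ(Y, V) Γ(X, U) := f.smooth_appLE hV hU hUV'
  obtain ⟨e⟩ := Var76.OmegaSmooth.exists_equiv f hU hV hUV'
  exact ⟨U, hU, hxU, Module.Projective.of_equiv e, Module.Finite.equiv e⟩

variable {S : Scheme.{u}}

/-- A section of `f` induces an isomorphism `e^* f^* ≅ id`. -/
def pullSectionIso {X : Scheme.{u}} (f : X ⟶ S) (e : S ⟶ X) (he : e ≫ f = 𝟙 S) (N : S.Modules) :
    (Scheme.Modules.pullback e).obj ((Scheme.Modules.pullback f).obj N) ≅ N :=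
  (Scheme.Modules.pullbackComp e f).app N ≪≫ (Scheme.Modules.pullbackCongr he).app N ≪≫
    (Scheme.Modules.pullbackId S).app N

variable (A : Over S) [GrpObj A] [IsProper A.hom] [Smooth A.hom] [GeometricallyConnected A.hom]
  [GeometricallyReduced A.hom]

theorem app_bijective_abSch (U : S.Opens) : Function.Bijective (A.hom.app U).hom :=
  app_bijective_general A.hom η[A].left (Over.w η[A]) U

theorem isFinLocFree_unit_omega : FlatMod.IsFinLocFree ((Scheme.Modules.pullback η[A].left).obj (Omega.sheaf A.hom)) :=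
  Strict99.isFinLocFree_pullback η[A].left (isFinLocFree_omega A.hom)

theorem exists_omega_iso_pullback : ∃ N : S.Modules, FlatMod.IsFinLocFree N ∧
    Nonempty (Omega.sheaf A.hom ≅ (Scheme.Modules.pullback A.hom).obj N) ∧
    Nonempty ((Scheme.Modules.pullback η[A].left).obj (Omega.sheaf A.hom) ≅ N) := by
  obtain ⟨i⟩ := Omega57.exists_omega_iso A
  have he : η[A].left ≫ A.hom = 𝟙 S := Over.w η[A]
  let j := (Scheme.Modules.pullback η[A].left).mapIso i ≪≫ pullSectionIso A.hom η[A].left he _
  exact ⟨Omega.conormal η[A].left, Var76.OmegaRegular.isFinLocFree_of_iso j (isFinLocFree_unit_omega A), ⟨i⟩, ⟨j⟩⟩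

end Groth.Agent.AbSch7
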