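import Groth.Agent.AbSch7.NoethH0
import Groth.Agent.AbSch7.Collapse

/-!
Rigidity over a locally Noetherian base.
-/

set_option autoImplicit false
universe u

open CategoryTheory CategoryTheory.Limits AlgebraicGeometry TopologicalSpace

namespace Groth.Agent.AbSch7

theorem isOpenMap_fst_comp {X T : Scheme.{u}} (f : X ⟶ T) [Flat f] [LocallyOfFinitePresentation f] :
    IsOpenMap (pullback.fst f f ≫ f) := by
  have : UniversallyOpen f := inferInstance
  exact (pullback.fst f f ≫ f).isOpenMap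

/-- Rigidity: the collapsed locus is open and closed. -/
theorem isClopen_collapsed {X Y T S : Scheme.{u}} [IsLocallyNoetherian T] (f : X ⟶ T) [IsProper f]
    [Flat f] (hf0 : H0Fib f) (h : X ⟶ Y) (v : Y ⟶ S) [IsSeparated v] (p : T ⟶ S)
    (hf : h ≫ v = f ≫ p) : IsClopen (collapsed f h) := by
  have := surjective_of_h0Fib hf0
  have : LocallyOfFinitePresentation f :=
    (LocallyOfFinitePresentation.iff_locallyOfFiniteType).2 inferInstance
  exact ⟨isClosed_collapsed f h (fun U => app_bijective f hf0 U) f.isClosedMap (isOpenMap_fst_comp f) v p hf,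
    isOpen_collapsed f h (fun U => app_bijective f hf0 U) f.isClosedMap⟩

/-- Rigidity over a connected base. -/
theorem exists_factor_of_connected {X Y T S : Scheme.{u}} [IsLocallyNoetherian T] [ConnectedSpace T]
    (f : X ⟶ T) [IsProper f] [Flat f] (hf0 : H0Fib f) (h : X ⟶ Y) (v : Y ⟶ S) [IsSeparated v]
    (p : T ⟶ S) (hf : h ≫ v = f ≫ p) {t : T} (ht : t ∈ collapsed f h) :
    ∃ k : T ⟶ Y, f ≫ k = h ∧ k ≫ v = p := by
  have := surjective_of_h0Fib hf0
  have hW : collapsed f h = Set.univ :=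
    (isClopen_collapsed f hf0 h v p hf).eq_univ ⟨t, ht⟩
  obtain ⟨k, hk⟩ := exists_factor_collapsed f h (fun U => app_bijective f hf0 U) f.isClosedMap ⊤
    (by rw [hW]; exact Set.subset_univ _)
  let i : X ⟶ (f ⁻¹ᵁ ⊤).toScheme :=
    IsOpenImmersion.lift (f ⁻¹ᵁ ⊤).ι (𝟙 X) (by rw [Scheme.Opens.range_ι]; exact fun _ _ => trivial)
  let j : T ⟶ (⊤ : T.Opens).toScheme :=
    IsOpenImmersion.lift (⊤ : T.Opens).ι (𝟙 T) (by rw [Scheme.Opens.range_ι]; exact fun _ _ => trivial)
  have hi : i ≫ (f ⁻¹ᵁ ⊤).ι = 𝟙 X := IsOpenImmersion.lift_fac _ _ _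
  have hj : j ≫ (⊤ : T.Opens).ι = 𝟙 T := IsOpenImmersion.lift_fac _ _ _
  have e1 : f ≫ j = i ≫ (f ∣_ ⊤) := by
    rw [← cancel_mono (⊤ : T.Opens).ι, Category.assoc, Category.assoc, hj, morphismRestrict_ι,
      reassoc_of% hi, Category.comp_id]
  have e2 : f ≫ j ≫ k = h := by
    rw [reassoc_of% e1, ← hk, reassoc_of% hi]
  refine ⟨j ≫ k, e2, ?_⟩
  have : Epi f := epi_of_app_injective f fun U => (app_bijective f hf0 U).1
  rw [← cancel_epi f, ← Category.assoc, e2, hf]

end Groth.Agent.AbSch7
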