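import Groth.Agent.RG29.SectionOpen
import Groth.Agent.Stein58.SteinFactor
import Groth.Agent.MorE57.Descent
import Groth.Agent.SGA3a.SmoothWeil

/-!
For a proper smooth morphism with a section, the set of points lying in the same fibre component as the
section is open and closed, over any base.
-/

set_option autoImplicit false

universe u

open CategoryTheory CategoryTheory.Limits AlgebraicGeometry TopologicalSpace TensorProduct

namespace Groth.Agent.AbSch7

set_option backward.isDefEq.respectTransparency false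

theorem eq_of_specializes {W T : Scheme.{u}} (b : W ⟶ T) [IsIntegralHom b] {x y y' : W} (h : x ⤳ y) (h' : x ⤳ y')
    (e : b y = b x) (e' : b y' = b x) : y = y' :=
  (MorE57.isClosed_singleton_fibre b x y h e).trans (MorE57.isClosed_singleton_fibre b x y' h' e').symm

/-- A map to a scheme integral over the base is constant near a section on the components of the section. -/
theorem exists_nhd_eq_section {P T W : Scheme.{u}} (p : P ⟶ T) [Smooth p] (b : W ⟶ T) [IsIntegralHom b]
    (h : P ⟶ W) (hb : h ≫ b = p) (τ : T ⟶ P) (hτ : τ ≫ p = 𝟙 T) (t : T) :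
    ∃ N : P.Opens, τ t ∈ N ∧ ∀ z ∈ N, h z = h (τ (p z)) := by
  have hpτ : ∀ s, p (τ s) = s := fun s => by rw [← Scheme.Hom.comp_apply, hτ]; rfl
  obtain ⟨V, hV, htV, -⟩ := exists_isAffineOpen_mem_and_subset (U := (⊤ : T.Opens)) (x := t) trivial
  obtain ⟨U, hU, htU, hUV⟩ := exists_isAffineOpen_mem_and_subset (U := p ⁻¹ᵁ V) (x := τ t)
    (show p (τ t) ∈ V by rw [hpτ]; exact htV)
  have hUV' : U ≤ p ⁻¹ᵁ V := hUV
  obtain ⟨r, hr, htr⟩ := hV.exists_basicOpen_le (V := τ ⁻¹ᵁ U) ⟨t, htU⟩ htV
  let V' := T.basicOpen r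
  let U' := P.basicOpen ((p.appLE V U hUV').hom r)
  have hU'eq : U' = U ⊓ p ⁻¹ᵁ V' := Scheme.basicOpen_appLE p U V hUV' r
  have hV' : IsAffineOpen V' := hV.basicOpen r
  have hU' : IsAffineOpen U' := hU.basicOpen _
  have eφ : U' ≤ p ⁻¹ᵁ V' := hU'eq.le.trans inf_le_right
  have eσ : V' ≤ τ ⁻¹ᵁ U' := fun s hs => by
    show τ s ∈ U'
    rw [hU'eq]
    exact ⟨hr hs, show p (τ s) ∈ V' by rw [hpτ]; exact hs⟩
  let φ := (p.appLE V' U' eφ).hom
  letI : Algebra Γ(T, V') Γ(P, U') := φ.toAlgebra
  haveI : Algebra.Smooth Γ(T, V') Γ(P, U') := p.smooth_appLE hV' hU' eφ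
  let σ : Γ(P, U') →ₐ[Γ(T, V')] Γ(T, V') :=
    { (τ.appLE U' V' eσ).hom with
      commutes' := fun a => by
        show (p.appLE V' U' eφ ≫ τ.appLE U' V' eσ).hom a = a
        rw [Scheme.Hom.appLE_comp_appLE]
        have key : ∀ (g : T ⟶ T) (_ : g = 𝟙 T) (e : V' ≤ g ⁻¹ᵁ V'), (g.appLE V' V' e).hom a = a := by
          rintro _ rfl e
          simp [Scheme.Hom.appLE]
          exact congrArg (fun m => m.hom a) (T.presheaf.map_id (Opposite.op V'))
        exact key _ hτ _ }
  have hp_spec : ∀ Q : PrimeSpectrum Γ(P, U'),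
      p (hU'.fromSpec Q) = hV'.fromSpec (PrimeSpectrum.comap φ Q) := fun Q => by
    rw [← Scheme.Hom.comp_apply, ← IsAffineOpen.SpecMap_appLE_fromSpec p hV' hU' eφ]
    rfl
  have hτ_spec : ∀ q : PrimeSpectrum Γ(T, V'),
      τ (hV'.fromSpec q) = hU'.fromSpec (PrimeSpectrum.comap σ.toRingHom q) := fun q => by
    rw [← Scheme.Hom.comp_apply, ← IsAffineOpen.SpecMap_appLE_fromSpec τ hU' hV' eσ]
    rfl
  let N : P.Opens := ⟨hU'.fromSpec '' RG29.compSet σ,
    hU'.fromSpec.isOpenEmbedding.isOpenMap _ (RG29.compSet_isOpen σ)⟩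
  refine ⟨N, ?_, ?_⟩
  · obtain ⟨q, hq⟩ : t ∈ Set.range hV'.fromSpec := hV'.range_fromSpec.symm ▸ htr
    refine ⟨PrimeSpectrum.comap σ.toRingHom q, ?_, (hτ_spec q).symm.trans (congrArg (fun s => τ s) hq)⟩
    let L := q.asIdeal.ResidueField
    rw [RG29.mem_compSet_iff σ _ ((IsScalarTower.toAlgHom Γ(T, V') Γ(T, V') L).comp σ) fun c => by
      show algebraMap _ L (σ c) = 0 ↔ _
      rw [Ideal.algebraMap_residueField_eq_zero]
      rfl]
    obtain ⟨e, he⟩ := RG29.exists_isCompIdem_secMap σ L
    refine ⟨e, he, ?_⟩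
    have : RG29.ptMap ((IsScalarTower.toAlgHom Γ(T, V') Γ(T, V') L).comp σ) = RG29.secMap σ L :=
      Algebra.TensorProduct.ext' fun l c => by simp [RG29.ptMap, RG29.secMap_tmul]
    rw [this]
    exact he.2.1
  · rintro _ ⟨z, hz, rfl⟩
    let L := z.asIdeal.ResidueField
    let τz : Γ(P, U') →ₐ[Γ(T, V')] L := IsScalarTower.toAlgHom _ _ L
    obtain ⟨e, he, hτe⟩ : RG29.InComp σ L τz := hz
    haveI := RG29.IsCompIdem.isDomain_corner (k := L) he
    let C := (L ⊗[Γ(T, V')] Γ(P, U')) ⧸ Ideal.span {1 - e}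
    let q : L ⊗[Γ(T, V')] Γ(P, U') →+* C := Ideal.Quotient.mk _
    let π : Γ(P, U') →+* C := q.comp (Algebra.TensorProduct.includeRight (R := Γ(T, V'))).toRingHom
    let Q0 : PrimeSpectrum Γ(P, U') := ⟨RingHom.ker π, RingHom.ker_isPrime π⟩
    let qz : PrimeSpectrum Γ(T, V') := PrimeSpectrum.comap φ z
    have hfac : ∀ (g : L ⊗[Γ(T, V')] Γ(P, U') →+* L), g e = 1 → ∀ c, π c = 0 → g (1 ⊗ₜ c) = 0 := by
      intro g hg c hc
      obtain ⟨d, hd⟩ := Ideal.mem_span_singleton'.1 (Ideal.Quotient.eq_zero_iff_mem.1 hc)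
      have := congrArg g hd
      rw [map_mul, map_sub, map_one, hg, sub_self, mul_zero] at this
      exact this.symm
    have h0 : PrimeSpectrum.comap φ Q0 = qz := by
      apply PrimeSpectrum.ext
      ext a
      show π (φ a) = 0 ↔ φ a ∈ z.asIdeal
      rw [← Ideal.algebraMap_residueField_eq_zero]
      have : π (φ a) = q (algebraMap L _ (algebraMap Γ(P, U') L (φ a))) := by
        show q ((1 : L) ⊗ₜ algebraMap Γ(T, V') Γ(P, U') a) = q ((algebraMap Γ(P, U') L (φ a)) ⊗ₜ (1 : Γ(P, U')))
        congr 1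
        rw [show algebraMap Γ(P, U') L (φ a) = algebraMap Γ(T, V') L a from
          (IsScalarTower.algebraMap_apply Γ(T, V') Γ(P, U') L a).symm,
          Algebra.algebraMap_eq_smul_one, Algebra.algebraMap_eq_smul_one, TensorProduct.tmul_smul,
          TensorProduct.smul_tmul']
      rw [this]
      exact (injective_iff_map_eq_zero' (q.comp (algebraMap L _))).1 (q.comp (algebraMap L _)).injective _
    have h1 : Q0 ⤳ z := (PrimeSpectrum.le_iff_specializes _ _).1 fun c hc => by
      have := hfac (RG29.ptMap τz).toRingHom hτe c hc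
      rw [← Ideal.algebraMap_residueField_eq_zero]
      simpa [RG29.ptMap, τz, -Ideal.algebraMap_residueField_eq_zero] using this
    have h2 : Q0 ⤳ PrimeSpectrum.comap σ.toRingHom qz := (PrimeSpectrum.le_iff_specializes _ _).1 fun c hc => by
      have := hfac (RG29.secMap σ L).toRingHom he.2.1 c hc
      show φ (σ c) ∈ z.asIdeal
      rw [← Ideal.algebraMap_residueField_eq_zero, show algebraMap Γ(P, U') L (φ (σ c)) = algebraMap Γ(T, V') L (σ c) from
          (IsScalarTower.algebraMap_apply Γ(T, V') Γ(P, U') L (σ c)).symm]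
      simpa [RG29.secMap_tmul] using this
    have hbp : ∀ y, b (h y) = p y := fun y => by rw [← Scheme.Hom.comp_apply, hb]
    rw [show τ (p (hU'.fromSpec z)) = hU'.fromSpec (PrimeSpectrum.comap σ.toRingHom qz) from
      (congrArg (fun s => τ s) (hp_spec z)).trans (hτ_spec qz)]
    refine eq_of_specializes b ((h1.map hU'.fromSpec.continuous).map h.continuous)
      ((h2.map hU'.fromSpec.continuous).map h.continuous) ?_ ?_
    · rw [hbp, hbp, hp_spec, hp_spec, h0]
    · rw [hbp, hbp, hp_spec Q0, h0, ← hτ_spec, hpτ]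

/-- A preconnected subset of a quasi-compact smooth scheme over a field has a common generisation. -/
theorem exists_generization {Y : Scheme.{u}} {K : Type u} [Field K] (b : Y ⟶ Spec (CommRingCat.of K)) [Smooth b]
    [QuasiCompact b] {A : Set Y} (hA : _root_.IsPreconnected A) {a : Y} (ha : a ∈ A) :
    ∃ g : Y, ∀ y ∈ A, g ⤳ y := by
  have : CompactSpace Y := QuasiCompact.compactSpace_of_compactSpace b
  have : IsLocallyNoetherian Y := LocallyOfFiniteType.isLocallyNoetherian b
  have : IsNoetherian Y := ⟨⟩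
  have := Stein58.finite_connectedComponents Y
  have ho : IsOpen (connectedComponent a) := by
    rw [← connectedComponents_preimage_singleton]
    exact (isOpen_discrete _).preimage ConnectedComponents.continuous_coe
  let K0 : Y.Opens := ⟨connectedComponent a, ho⟩
  have : ConnectedSpace K0 := Subtype.connectedSpace isConnected_connectedComponent
  have : IrreducibleSpace ↥(K0 : Scheme.{u}) := SGA3a.irreducibleSpace_of_smooth_connected (K0.ι ≫ b)
  exact ⟨K0.ι (genericPoint ↥(K0 : Scheme.{u})), fun y hy => by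
    let w : ↥(K0 : Scheme.{u}) := ⟨y, hA.subset_connectedComponent ha hy⟩
    exact (genericPoint_specializes w).map K0.ι.continuous⟩

end Groth.Agent.AbSch7

namespace Groth.Agent.AbSch7

set_option backward.isDefEq.respectTransparency false

/-- The points lying in the fibre component of a section form an open closed subset. -/
theorem isClopen_sectionComp {X S : Scheme.{u}} (f : X ⟶ S) [Smooth f] [IsProper f] (σ : S ⟶ X) (hσ : σ ≫ f = 𝟙 S) :
    IsClopen {x : X | f.toNormalization x = f.toNormalization (σ (f x))} := by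
  let N := f.fromNormalization
  let tN := f.toNormalization
  let σN : S ⟶ f.normalization := σ ≫ tN
  have hσN : σN ≫ N = 𝟙 S := by simp [σN, N, tN, hσ]
  have hfN : ∀ x, N (tN x) = f x := fun x => by
    rw [← Scheme.Hom.comp_apply, Scheme.Hom.toNormalization_fromNormalization]
  have hNσ : ∀ s, N (σN s) = s := fun s => by rw [← Scheme.Hom.comp_apply, hσN]; rfl
  refine ⟨?_, ?_⟩
  · have : IsClosedImmersion (σN ≫ N) := by rw [hσN]; infer_instance
    have : IsClosedImmersion σN := IsClosedImmersion.of_comp σN N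
    convert (σN.isClosedEmbedding.isClosed_range).preimage tN.continuous using 1
    ext x
    refine ⟨fun h => ⟨f x, h.symm⟩, fun ⟨s, hs⟩ => ?_⟩
    show tN x = σN (f x)
    rw [← hs, ← hfN x, ← hs, hNσ]
  · rw [isOpen_iff_forall_mem_open]
    intro x hx
    have hx' : tN x = σN (f x) := hx
    obtain ⟨I, hIσ, hI⟩ := exists_nhd_eq_section f N tN (Scheme.Hom.toNormalization_fromNormalization f) σ hσ (f x)
    let pr2 : pullback f f ⟶ X := pullback.snd f f
    let pr1 : pullback f f ⟶ X := pullback.fst f f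
    have : Smooth pr2 := inferInstanceAs (Smooth (pullback.snd f f))
    have : IsProper pr2 := inferInstanceAs (IsProper (pullback.snd f f))
    let W := pullback N f
    let b : W ⟶ X := pullback.snd N f
    have : IsIntegralHom b := inferInstanceAs (IsIntegralHom (pullback.snd N f))
    let h : pullback f f ⟶ W := pullback.map f f N f tN (𝟙 _) (𝟙 _) (by simp [N, tN]) (by simp)
    have hb : h ≫ b = pr2 := by simp [h, b, pr2]
    have hh1 : h ≫ pullback.fst N f = pr1 ≫ tN := pullback.lift_fst _ _ _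
    let Δ : X ⟶ pullback f f := pullback.lift (𝟙 X) (𝟙 X) rfl
    have hΔ : Δ ≫ pr2 = 𝟙 X := pullback.lift_snd _ _ _
    let τ : X ⟶ pullback f f := pullback.lift (f ≫ σ) (𝟙 X) (by simp [hσ])
    let w : X ⟶ W := pullback.lift (f ≫ σN) (𝟙 X) (by simp [hσN])
    have hwb : w ≫ b = 𝟙 X := pullback.lift_snd _ _ _
    have hwf : w ≫ pullback.fst N f = f ≫ σN := pullback.lift_fst _ _ _
    have hτw : τ ≫ h = w := by
      apply pullback.hom_ext
      · rw [Category.assoc, hh1, hwf, ← Category.assoc]; simp [τ, pr1, σN]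
      · rw [Category.assoc]; erw [hb, hwb]; simp [τ, pr2]
    obtain ⟨N2, hN2Δ, hN2⟩ := exists_nhd_eq_section pr2 b h hb Δ hΔ x
    -- the component over `x`
    have hGC : GeometricallyConnected h := by
      have := Stein58.geometricallyConnected_toNormalization f
      exact MorphismProperty.of_isPullback (P := @GeometricallyConnected)
        (Stein58.isPullback_map_fst (f := f) (f' := N) f tN (Scheme.Hom.toNormalization_fromNormalization f)).flip this
    have hsq : IsPullback f w σN (pullback.fst N f) :=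
      IsPullback.of_bot (h₃₁ := f) (v₂₁ := b) (v₂₂ := N)
        (by rw [hwb, hσN]; exact IsPullback.of_vert_isIso ⟨by simp⟩)
        hwf.symm (IsPullback.of_hasPullback N f)
    have hΔw : h (Δ x) = w x := by
      have hfst : pullback.fst N f (h (Δ x)) = σN (f x) := by
        rw [← Scheme.Hom.comp_apply, hh1, ← Scheme.Hom.comp_apply]
        simp only [← Category.assoc, Δ, pr1, pullback.lift_fst, Category.id_comp]
        exact hx'
      obtain ⟨x', hx'1, hx'2⟩ := Scheme.exists_preimage_of_isPullback hsq (f x) (h (Δ x)) hfst.symm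
      have h2 : b (h (Δ x)) = x := by rw [← Scheme.Hom.comp_apply, hb, ← Scheme.Hom.comp_apply, hΔ]; rfl
      rw [← hx'2, ← Scheme.Hom.comp_apply, hwb] at h2
      rw [← hx'2]
      exact congrArg (fun z => w z) h2
    have hbw : ∀ t, b (w t) = t := fun t => by rw [← Scheme.Hom.comp_apply, hwb]; rfl
    have hτh : h (τ x) = w x := by rw [← Scheme.Hom.comp_apply, hτw]
    let A : Set ↥(pullback f f) := h ⁻¹' {w x}
    have hA : _root_.IsPreconnected A := (h.isConnected_preimage_singleton (w x)).isPreconnected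
    have hAr : A ⊆ Set.range (pr2.fiberι x) := fun z hz => by
      rw [Scheme.Hom.range_fiberι]
      show pr2 z = x
      rw [← hb, Scheme.Hom.comp_apply, show h z = w x from hz, hbw]
    have hA' : _root_.IsPreconnected (pr2.fiberι x ⁻¹' A) := by
      rw [← (pr2.fiberι x).isEmbedding.isInducing.isPreconnected_image, Set.image_preimage_eq_of_subset hAr]
      exact hA
    have : Smooth (pr2.fiberToSpecResidueField x) := MorphismProperty.pullback_snd _ _ inferInstance
    obtain ⟨a0, ha0⟩ := hAr (show Δ x ∈ A from hΔw)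
    obtain ⟨g, hg⟩ := exists_generization (K := X.residueField x) (pr2.fiberToSpecResidueField x) hA'
      (a := a0) (show pr2.fiberι x a0 ∈ A by rw [ha0]; exact hΔw)
    obtain ⟨a1, ha1⟩ := hAr (show τ x ∈ A from hτh)
    have hgΔ : pr2.fiberι x g ⤳ Δ x := by
      rw [← ha0]; exact (hg a0 (show pr2.fiberι x a0 ∈ A by rw [ha0]; exact hΔw)).map (pr2.fiberι x).continuous
    have hgτ : pr2.fiberι x g ⤳ τ x := by
      rw [← ha1]; exact (hg a1 (show pr2.fiberι x a1 ∈ A by rw [ha1]; exact hτh)).map (pr2.fiberι x).continuous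
    have hgI : pr2.fiberι x g ∈ pr1 ⁻¹ᵁ I := hgτ.mem_open (pr1 ⁻¹ᵁ I).2 (show pr1 (τ x) ∈ I by
      rw [← Scheme.Hom.comp_apply, show τ ≫ pr1 = f ≫ σ from pullback.lift_fst _ _ _]
      exact hIσ)
    refine ⟨pr2 '' ((N2 ⊓ pr1 ⁻¹ᵁ I : (pullback f f).Opens) : Set ↥(pullback f f)), ?_, pr2.isOpenMap _ (N2 ⊓ pr1 ⁻¹ᵁ I).2,
      ⟨_, ⟨hgΔ.mem_open N2.2 hN2Δ, hgI⟩, show pr2.fiberι x g ∈ pr2 ⁻¹' {x} from
        pr2.range_fiberι x ▸ Set.mem_range_self g⟩⟩
    rintro _ ⟨z, ⟨hz2, hzI⟩, rfl⟩
    have h1 := congrArg (fun m => pullback.fst N f m) (hN2 z hz2)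
    have h2 : ∀ y, pullback.fst N f (h y) = tN (pr1 y) := fun y => by
      rw [← Scheme.Hom.comp_apply, hh1]; rfl
    simp only [h2] at h1
    have h3 : pr1 (Δ (pr2 z)) = pr2 z := by
      rw [← Scheme.Hom.comp_apply Δ pr1, show Δ ≫ pr1 = 𝟙 X from pullback.lift_fst _ _ _]; rfl
    rw [h3] at h1
    show tN (pr2 z) = σN (f (pr2 z))
    rw [← h1, hI _ hzI]
    show σN (f (pr1 z)) = _
    rw [← Scheme.Hom.comp_apply pr1 f, show pr1 ≫ f = pr2 ≫ f from pullback.condition]
    rfl

/-- Over a connected base, a proper smooth connected scheme with a section has connected fibres. -/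
theorem isConnected_fibre_of_section {X S : Scheme.{u}} (f : X ⟶ S) [Smooth f] [IsProper f]
    [ConnectedSpace X] (σ : S ⟶ X) (hσ : σ ≫ f = 𝟙 S) (s : S) : _root_.IsConnected (f ⁻¹' {s}) := by
  have hfσ : f (σ s) = s := by rw [← Scheme.Hom.comp_apply, hσ]; rfl
  have hC := (isClopen_sectionComp f σ hσ).eq_univ ⟨σ s, show f.toNormalization (σ s) = _ by rw [hfσ]⟩
  have := Stein58.geometricallyConnected_toNormalization f
  have he : f ⁻¹' {s} = f.toNormalization ⁻¹' {f.toNormalization (σ s)} := by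
    ext x
    refine ⟨fun h => ?_, fun h => ?_⟩
    · have hx : f.toNormalization x = f.toNormalization (σ (f x)) := (Set.ext_iff.1 hC x).2 trivial
      rw [show f x = s from h] at hx
      exact hx
    · have h' := congrArg (fun m => f.fromNormalization m) (show f.toNormalization x = f.toNormalization (σ s) from h)
      have hN : ∀ y, f.fromNormalization (f.toNormalization y) = f y := fun y => by
        rw [← Scheme.Hom.comp_apply, Scheme.Hom.toNormalization_fromNormalization]
      simp only [hN] at h'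
      exact h'.trans hfσ
  rw [he]
  exact f.toNormalization.isConnected_preimage_singleton _

end Groth.Agent.AbSch7
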